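import Cfsg.Agent.Lib.JankoFourOrder.Central.Tables
import Cfsg.Agent.Lib.JankoFourHexad.OrbitChecks

/-!
# Generators, Sylow subgroup, class representatives (owner: helper17)
-/

set_option autoImplicit false
set_option maxRecDepth 100000

namespace CfsgLib.JankoFourOrder.Central

open CfsgLib.Sporadic CfsgLib.JankoFourHexad
open CfsgLib.ThreeTrans.M24Inv (peq)

/-- A permutation moves the codes as a given map on the basis. -/
noncomputable def sameMap (p : ℕ) (f : ℕ → ℕ) : Bool :=
  forallLt 11 fun j => Nat.beq (pImg p (Nat.pow 2 j)) (f (Nat.pow 2 j))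

/-- The word of the product of the lifts with a given code. -/
noncomputable def klWord (k : ℕ) : List ℕ :=
  (List.range 4).foldr (fun i w => if Nat.testBit k i then basWord.getD i [] ++ w else w) []

theorem gen_ok : forallLt 2 (fun g => (genWord.getD g []).all (fun x => Nat.blt x 9) &&
    Nat.blt (genM g) (2 ^ 144) && Nat.blt (genI g) (2 ^ 144) &&
    Nat.beq (mMul (genM g) (genI g)) mId && Nat.beq (mMul (genI g) (genM g)) mId &&
    forallLt 12 fun j => Nat.beq (qWord (genWord.getD g []) (Nat.pow 2 j)) (mCol (genM g) j)) = true := by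
  decide +kernel

theorem bas_ok : forallLt 9 (fun g => (basWord.getD g []).all (fun x => Nat.blt x 2) &&
    Nat.beq (wordMat (basWord.getD g [])) (basMat.getD g 0) &&
    forallLt 12 fun j => Nat.beq (qGen g (Nat.pow 2 j)) (mCol (basMat.getD g 0) j)) = true := by decide +kernel

theorem abc_ok : forallLt 3 (fun g => (basWord.getD (9 + g) []).all (fun x => Nat.blt x 2) &&
    Nat.beq (wordMat (basWord.getD (9 + g) [])) (basMat.getD (9 + g) 0) &&
    jCheck 0 (abcPerm.getD g 0) (basMat.getD (9 + g) 0) &&
    peq (pmul (abcPerm.getD g 0) pPerm) (pmul pPerm (abcPerm.getD g 0))) = true := by decide +kernel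

theorem abc_maps : sameMap (abcPerm.getD 0 0) (gMap 0) = true ∧ sameMap (abcPerm.getD 1 0) (gMap 1) = true ∧
    sameMap (abcPerm.getD 2 0) (cMap 5) = true ∧ sameMap pPerm (gMap 2) = true ∧
    jCheck 0 pPerm (basMat.getD 8 0) = true := by decide +kernel

theorem fixed_ok : forallLt 2048 (fun n =>
    (!Nat.beq (pImg pPerm n) n) || fixedP.any (fun v => Nat.beq v n)) = true := by decide +kernel

theorem fixed_mats : forallLt 32 (fun i => jCheck (fixedP.getD i 0) pone (fixedMat.getD i 0) &&
    Nat.beq (fixedMat.getD i 0) (wordMat (klWord (Nat.shiftRight (fixedP.getD i 0) 7)))) = true := by decide +kernel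

theorem syl_ok : forallLt 16 (fun j => jCheck 0 (sylPerm.getD j 0) (sylMat.getD j 0) &&
    forallLt 16 (fun k => Nat.blt ((sylMul.getD j []).getD k 16) 16 &&
      peq (pmul (sylPerm.getD j 0) (sylPerm.getD k 0)) (sylPerm.getD ((sylMul.getD j []).getD k 16) 0))) = true := by
  decide +kernel

theorem syl_distinct : forallLt 16 (fun j => forallLt 16 fun k =>
    Nat.beq j k || !peq (sylPerm.getD j 0) (sylPerm.getD k 0)) = true := by decide +kernel

theorem syl_outer : sylOuter < 16 ∧ peq (sylPerm.getD 0 0) pone = true ∧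
    peq (pmul (sylPerm.getD sylOuter 0) pPerm) (pmul pPerm (sylPerm.getD sylOuter 0)) = false := by
  decide +kernel

/-- A product in the Sylow subgroup is no involution, or is listed. -/
noncomputable def goodOK (i : ℕ) : Bool :=
  let m := mMul (fixedMat.getD (Nat.div i 16) 0) (sylMat.getD (Nat.mod i 16) 0)
  if Nat.beq (sylGood.getD i 0) 6304 then !Nat.beq (mMul m m) mId
  else Nat.blt (sylGood.getD i 0) 6304 && Nat.beq (LT (sylGood.getD i 0)) m

theorem good_ok : forallLt 512 goodOK = true := by decide +kernel

theorem rep_el : forallLt 3 (fun c => jCheck (repEl.getD c (0, 0)).1 (repEl.getD c (0, 0)).2 (repM c) &&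
    Nat.beq (LT (repStart.getD c 0)) (repM c) && Nat.beq (mMul (repM c) (repM c)) mId) = true := by decide +kernel

end CfsgLib.JankoFourOrder.Central
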