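import Cfsg.Agent.Lib.JankoFourOrder.Central.Tables

/-!
# The list of involution matrices: closure, distinctness, classes (owner: helper17)
-/

set_option autoImplicit false
set_option maxRecDepth 100000

namespace CfsgLib.JankoFourOrder.Central

open CfsgLib.Sporadic

/-- One step of the closure check. -/
noncomputable def piOK (g i : ℕ) : Bool :=
  Nat.blt (piAt g i) 6304 && Nat.beq (mMul (genM g) (LT i)) (mMul (LT (piAt g i)) (genM g))

/-- One step of the order check. -/
noncomputable def srtOK (r : ℕ) : Bool :=
  Nat.blt (arr13 srtTree r) 6304 && Nat.blt (arr13 rnkTree r) 6304 &&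
    Nat.beq (arr13 srtTree (arr13 rnkTree r)) r &&
    (Nat.beq r 6303 || Nat.blt (LT (arr13 srtTree r)) (LT (arr13 srtTree (r + 1))))

/-- One step of the class check. -/
noncomputable def parOK (i : ℕ) : Bool :=
  if Nat.beq i (repStart.getD (clsOf i) 0) then Nat.beq (LT i) (repM (clsOf i))
  else Nat.blt (Nat.shiftRight (parCode i) 1) i &&
    Nat.beq (clsOf (Nat.shiftRight (parCode i) 1)) (clsOf i) &&
    Nat.beq (mMul (genM (Nat.land (parCode i) 1)) (LT (Nat.shiftRight (parCode i) 1)))
      (mMul (LT i) (genM (Nat.land (parCode i) 1)))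

theorem pi0_a : forallLt 3152 (fun i => piOK 0 i) = true := by decide +kernel
theorem pi0_b : forallLt 3152 (fun i => piOK 0 (3152 + i)) = true := by decide +kernel
theorem pi1_a : forallLt 3152 (fun i => piOK 1 i) = true := by decide +kernel
theorem pi1_b : forallLt 3152 (fun i => piOK 1 (3152 + i)) = true := by decide +kernel
theorem srt_ok : forallLt 6304 srtOK = true := by decide +kernel
theorem par_a : forallLt 3152 parOK = true := by decide +kernel
theorem par_b : forallLt 3152 (fun i => parOK (3152 + i)) = true := by decide +kernel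

theorem split_check {f : ℕ → Bool} (ha : forallLt 3152 f = true)
    (hb : forallLt 3152 (fun i => f (3152 + i)) = true) {i : ℕ} (hi : i < 6304) : f i = true := by
  by_cases h : i < 3152
  · exact forallLt_elim ha h
  · have := forallLt_elim hb (k := i - 3152) (by omega)
    rwa [show 3152 + (i - 3152) = i by omega] at this

theorem pi_ok {g i : ℕ} (hg : g < 2) (hi : i < 6304) :
    piAt g i < 6304 ∧ mMul (genM g) (LT i) = mMul (LT (piAt g i)) (genM g) := by
  have h : piOK g i = true := by
    rcases (show g = 0 ∨ g = 1 by omega) with rfl | rfl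
    exacts [split_check pi0_a pi0_b hi, split_check pi1_a pi1_b hi]
  rw [piOK, Bool.and_eq_true, Nat.blt_eq, Nat.beq_eq] at h
  exact h

theorem LT_lt (i : ℕ) : LT i < 2 ^ 144 :=
  Nat.lt_of_le_of_lt Nat.and_le_right (by decide)

theorem LT_id : LT 6303 = mId := by decide +kernel

theorem srt_spec {r : ℕ} (hr : r < 6304) : srtOK r = true := forallLt_elim srt_ok hr

theorem LT_inj {i j : ℕ} (hi : i < 6304) (hj : j < 6304) (h : LT i = LT j) : i = j := by
  have hk : ∀ {k}, k < 6304 → arr13 rnkTree k < 6304 ∧ arr13 srtTree (arr13 rnkTree k) = k := by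
    intro k hk
    have := srt_spec hk
    simp only [srtOK, Bool.and_eq_true, Nat.blt_eq, Nat.beq_eq] at this
    exact ⟨this.1.1.2, this.1.2⟩
  have mono : ∀ b, b < 6304 → ∀ a, a < b → LT (arr13 srtTree a) < LT (arr13 srtTree b) := by
    intro b
    induction b with
    | zero => intro _ a ha; omega
    | succ b ih =>
      intro hb a ha
      have h1 := srt_spec (r := b) (by omega)
      simp only [srtOK, Bool.and_eq_true, Bool.or_eq_true, Nat.blt_eq, Nat.beq_eq] at h1
      have h2 := h1.2.resolve_left (by omega)
      rcases Nat.lt_succ_iff_lt_or_eq.1 ha with e | rfl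
      exacts [(ih (by omega) a e).trans h2, h2]
  obtain ⟨hi1, hi2⟩ := hk hi
  obtain ⟨hj1, hj2⟩ := hk hj
  rcases lt_trichotomy (arr13 rnkTree i) (arr13 rnkTree j) with e | e | e
  · have := mono _ hj1 _ e
    rw [hi2, hj2, h] at this
    exact absurd this (lt_irrefl _)
  · rw [← hi2, e, hj2]
  · have := mono _ hi1 _ e
    rw [hi2, hj2, h] at this
    exact absurd this (lt_irrefl _)

end CfsgLib.JankoFourOrder.Central
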