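import Cfsg.Agent.Lib.JankoFourHexad.CodeChecks

/-!
# Twelve by twelve matrices over the field of two elements as numbers (owner: helper17)

Column `j` occupies the bits `12 j` to `12 j + 11`; a product costs twelve multiplications.
-/

set_option autoImplicit false
set_option maxRecDepth 100000

namespace CfsgLib.JankoFourOrder

open CfsgLib.JankoFourHexad (xfold)

/-- Quaternary trees of numbers. -/
inductive QTree
  | leaf (v : ℕ)
  | node (a b c d : QTree)

/-- The leaf with a given index, read from the low pair of bits. -/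
noncomputable def QTree.get (t : QTree) : ℕ → ℕ :=
  QTree.rec (motive := fun _ => ℕ → ℕ) (fun v _ => v)
    (fun _ _ _ _ a b c d i =>
      cond (Nat.beq (Nat.land i 2) 0)
        (cond (Nat.beq (Nat.land i 1) 0) (a (Nat.shiftRight i 2)) (b (Nat.shiftRight i 2)))
        (cond (Nat.beq (Nat.land i 1) 0) (c (Nat.shiftRight i 2)) (d (Nat.shiftRight i 2)))) t

/-- The first bit of each column. -/
def bitsR : ℕ := 5445847423328601499764522166702896582657

/-- A column. -/
noncomputable def mCol (m j : ℕ) : ℕ := Nat.land (Nat.shiftRight m (Nat.mul 12 j)) 4095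

/-- The product; for `b < 4096` also the image of a vector. -/
noncomputable def mMul (a b : ℕ) : ℕ :=
  Nat.rec 0 (fun i acc => Nat.xor acc (Nat.mul (mCol a i) (Nat.land (Nat.shiftRight b i) bitsR))) 12

/-- The identity. -/
def mId : ℕ := 11151733894906779683522195341810241573494785

/-- A power. -/
noncomputable def mPow (m k : ℕ) : ℕ := Nat.rec mId (fun _ acc => mMul m acc) k

/-- The sum of the first powers. -/
noncomputable def mSum (m k : ℕ) : ℕ := Nat.rec 0 (fun _ acc => Nat.xor mId (mMul m acc)) k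

/-- The accumulated vector of a power. -/
noncomputable def vSum (m w k : ℕ) : ℕ := Nat.rec 0 (fun _ acc => Nat.xor w (mMul m acc)) k

theorem mCol_lt (m j : ℕ) : mCol m j < 4096 := Nat.lt_succ_of_le Nat.and_le_right

theorem testBit_mCol (m j i : ℕ) (hi : i < 12) : (mCol m j).testBit i = m.testBit (12 * j + i) := by
  show ((m >>> (12 * j)) &&& (2 ^ 12 - 1)).testBit i = _
  rw [Nat.and_two_pow_sub_one_eq_mod, Nat.testBit_mod_two_pow, Nat.testBit_shiftRight]
  simp [hi]

theorem mCol_xor (a b j : ℕ) : mCol (a ^^^ b) j = mCol a j ^^^ mCol b j := by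
  show ((a ^^^ b) >>> (12 * j)) &&& 4095 = ((a >>> (12 * j)) &&& 4095) ^^^ ((b >>> (12 * j)) &&& 4095)
  rw [Nat.shiftRight_xor_distrib, Nat.and_xor_distrib_right]

theorem mCol_div (x j : ℕ) : mCol x j = x / 4096 ^ j % 4096 := by
  show (x >>> (12 * j)) &&& (2 ^ 12 - 1) = _
  rw [Nat.and_two_pow_sub_one_eq_mod, Nat.shiftRight_eq_div_pow, Nat.pow_mul]

theorem mCol_scale {c : ℕ} (hc : c < 4096) {x : ℕ} :
    ∀ {j : ℕ}, (∀ i ≤ j, mCol x i ≤ 1) → mCol (c * x) j = c * mCol x j := by
  intro j h
  have key : ∀ i ≤ j, c * x / 4096 ^ i = c * (x / 4096 ^ i) := by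
    intro i hi
    induction i with
    | zero => simp
    | succ i ih =>
      rw [pow_succ, ← Nat.div_div_eq_div_mul, ← Nat.div_div_eq_div_mul, ih (by omega)]
      have hd : x / 4096 ^ i % 4096 ≤ 1 := mCol_div x i ▸ h i (by omega)
      set y := x / 4096 ^ i
      rcases (show y % 4096 = 0 ∨ y % 4096 = 1 by omega) with e | e
      · obtain ⟨q, hq⟩ : 4096 ∣ y := Nat.dvd_of_mod_eq_zero e
        rw [hq, Nat.mul_left_comm, Nat.mul_div_cancel_left _ (by norm_num),
          Nat.mul_div_cancel_left _ (by norm_num)]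
      · conv_lhs => rw [show y = 4096 * (y / 4096) + 1 by omega, Nat.mul_add, Nat.mul_one,
          Nat.mul_left_comm, Nat.add_comm, Nat.add_mul_div_left _ _ (by norm_num : 0 < 4096),
          Nat.div_eq_of_lt hc, Nat.zero_add]
  rw [mCol_div, mCol_div, key j le_rfl]
  have hd : x / 4096 ^ j % 4096 ≤ 1 := mCol_div x j ▸ h j le_rfl
  rw [Nat.mul_mod, Nat.mod_eq_of_lt hc]
  rcases (show x / 4096 ^ j % 4096 = 0 ∨ x / 4096 ^ j % 4096 = 1 by omega) with e | e <;> simp [e, hc]

theorem bitsR_col : ∀ j : Fin 12, mCol bitsR j.1 = 1 := by decide +kernel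

theorem mCol_bits (b i : ℕ) {j : ℕ} (hj : j < 12) :
    mCol ((b >>> i) &&& bitsR) j = if b.testBit (12 * j + i) then 1 else 0 := by
  refine Nat.eq_of_testBit_eq fun k => ?_
  by_cases hk : k < 12
  · have hR := congrArg (fun t => t.testBit k) (bitsR_col ⟨j, hj⟩)
    simp only [testBit_mCol _ _ _ hk] at hR
    rw [testBit_mCol _ _ _ hk, Nat.testBit_and, Nat.testBit_shiftRight, hR]
    rcases Nat.eq_zero_or_pos k with rfl | hk0
    · rw [show i + (12 * j + 0) = 12 * j + i by ring]
      cases b.testBit (12 * j + i) <;> simp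
    · rw [Nat.testBit_lt_two_pow (x := 1) (Nat.one_lt_two_pow hk0.ne'), Bool.and_false]
      cases b.testBit (12 * j + i)
      · simp
      · simp [Nat.testBit_lt_two_pow (x := 1) (Nat.one_lt_two_pow hk0.ne')]
  · have h1 := mCol_lt ((b >>> i) &&& bitsR) j
    rw [Nat.testBit_lt_two_pow (lt_of_lt_of_le h1 (by
      rw [show (4096 : ℕ) = 2 ^ 12 from rfl]; exact Nat.pow_le_pow_right (by norm_num) (by omega)))]
    split_ifs
    · rw [Nat.testBit_lt_two_pow (x := 1) (Nat.one_lt_two_pow (by omega))]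
    · simp

theorem xfold_eq (f : ℕ → ℕ) (x k : ℕ) :
    xfold f x (k + 1) = xfold f x k ^^^ if x.testBit k then f k else 0 := rfl

/-- The columns of a product. -/
theorem mCol_mMul (a b : ℕ) {j : ℕ} (hj : j < 12) : mCol (mMul a b) j = xfold (mCol a) (mCol b j) 12 := by
  have step : ∀ n ≤ 12, mCol (Nat.rec 0 (fun i acc => Nat.xor acc (Nat.mul (mCol a i)
      (Nat.land (Nat.shiftRight b i) bitsR))) n) j = xfold (mCol a) (mCol b j) n := by
    intro n hn
    induction n with
    | zero =>
      show mCol 0 j = 0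
      rw [mCol_div]; simp
    | succ n ih =>
      show mCol (_ ^^^ mCol a n * ((b >>> n) &&& bitsR)) j = _
      rw [mCol_xor, ih (by omega), xfold_eq, mCol_scale (mCol_lt a n)
        (fun i hi => by rw [mCol_bits b n (by omega)]; split_ifs <;> omega), mCol_bits b n hj,
        testBit_mCol b j n (by omega)]
      split_ifs <;> simp
  exact step 12 le_rfl

theorem mCol_small {x : ℕ} (hx : x < 4096) : mCol x 0 = x := by
  rw [mCol_div, pow_zero, Nat.div_one, Nat.mod_eq_of_lt hx]

theorem xfold_lt12 {f : ℕ → ℕ} (h : ∀ i, f i < 4096) (x : ℕ) : ∀ k, xfold f x k < 4096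
  | 0 => by show (0 : ℕ) < 4096; norm_num
  | k + 1 => by
    rw [xfold_eq]
    refine Nat.xor_lt_two_pow (n := 12) (xfold_lt12 h x k) ?_
    split_ifs
    exacts [h k, by norm_num]

/-- Bounded by the columns. -/
theorem mMul_lt (a b : ℕ) : mMul a b < 2 ^ 144 := by
  have step : ∀ n, (Nat.rec 0 (fun i acc => Nat.xor acc (Nat.mul (mCol a i)
      (Nat.land (Nat.shiftRight b i) bitsR))) n : ℕ) < 2 ^ 144 := by
    intro n
    induction n with
    | zero => show (0 : ℕ) < 2 ^ 144; norm_num
    | succ n ih =>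
      refine Nat.xor_lt_two_pow (n := 144) ih ?_
      calc mCol a n * ((b >>> n) &&& bitsR) ≤ 4095 * bitsR :=
            Nat.mul_le_mul (Nat.lt_succ_iff.1 (mCol_lt a n)) Nat.and_le_right
        _ < 2 ^ 144 := by decide
  exact step 12

theorem mat_ext {a b : ℕ} (ha : a < 2 ^ 144) (hb : b < 2 ^ 144) (h : ∀ j < 12, mCol a j = mCol b j) : a = b := by
  refine Nat.eq_of_testBit_eq fun k => ?_
  by_cases hk : k < 144
  · have := congrArg (fun t => t.testBit (k % 12)) (h (k / 12) (by omega))
    simp only [testBit_mCol _ _ _ (Nat.mod_lt k (by norm_num : 12 > 0))] at this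
    rwa [Nat.div_add_mod] at this
  · rw [Nat.testBit_lt_two_pow (lt_of_lt_of_le ha (Nat.pow_le_pow_right (by norm_num) (by omega))),
      Nat.testBit_lt_two_pow (lt_of_lt_of_le hb (Nat.pow_le_pow_right (by norm_num) (by omega)))]

/-- The image of a vector. -/
theorem mMul_vec (a : ℕ) {x : ℕ} (hx : x < 4096) : mMul a x = xfold (mCol a) x 12 := by
  refine mat_ext (mMul_lt a x)
    (lt_of_lt_of_le (xfold_lt12 (mCol_lt a) x 12) (by norm_num)) fun j hj => ?_
  rw [mCol_mMul a x hj]
  rcases Nat.eq_zero_or_pos j with rfl | hj0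
  · rw [mCol_small hx, mCol_small (xfold_lt12 (mCol_lt a) x 12)]
  · have hs : ∀ {y : ℕ}, y < 4096 → mCol y j = 0 := fun {y} hy => by
      rw [mCol_div, Nat.div_eq_of_lt (lt_of_lt_of_le hy (Nat.le_self_pow hj0.ne' 4096))]
    rw [hs hx, hs (xfold_lt12 (mCol_lt a) x 12)]
    have step : ∀ k, xfold (mCol a) 0 k = 0 := by
      intro k
      induction k with
      | zero => rfl
      | succ k ih => rw [xfold_eq, ih]; simp
    exact step 12

theorem mMul_vec_lt (a : ℕ) {x : ℕ} (hx : x < 4096) : mMul a x < 4096 := by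
  rw [mMul_vec a hx]; exact xfold_lt12 (mCol_lt a) x 12

theorem xfold_xor (f : ℕ → ℕ) (x y : ℕ) : ∀ k, xfold f (x ^^^ y) k = xfold f x k ^^^ xfold f y k
  | 0 => (Nat.xor_self 0).symm
  | k + 1 => by
    rw [xfold_eq, xfold_eq, xfold_eq, xfold_xor f x y k, Nat.testBit_xor]
    cases x.testBit k <;> cases y.testBit k <;> simp [Nat.xor_assoc, Nat.xor_left_comm, Nat.xor_comm]

theorem mMul_add (a : ℕ) {x y : ℕ} (hx : x < 4096) (hy : y < 4096) :
    mMul a (x ^^^ y) = mMul a x ^^^ mMul a y := by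
  rw [mMul_vec a hx, mMul_vec a hy, mMul_vec a (Nat.xor_lt_two_pow (n := 12) hx hy), xfold_xor]

theorem mMul_vec_zero (a : ℕ) : mMul a 0 = 0 := by
  have := mMul_add a (x := 0) (y := 0) (by norm_num) (by norm_num)
  simpa using this

/-- The image under a product. -/
theorem mMul_assoc_vec (a b : ℕ) {x : ℕ} (hx : x < 4096) : mMul (mMul a b) x = mMul a (mMul b x) := by
  rw [mMul_vec _ hx, mMul_vec b hx]
  have step : ∀ k ≤ 12, xfold (mCol (mMul a b)) x k = mMul a (xfold (mCol b) x k) := by
    intro k hk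
    induction k with
    | zero => exact (mMul_vec_zero a).symm
    | succ k ih =>
      rw [xfold_eq, xfold_eq, ih (by omega), mCol_mMul a b (by omega), mMul_add a (xfold_lt12 (mCol_lt b) x k)
        (by split_ifs <;> first | exact mCol_lt b k | norm_num)]
      split_ifs
      · rw [mMul_vec a (mCol_lt b k)]
      · rw [mMul_vec_zero]
  exact step 12 le_rfl

theorem mCol_mId : ∀ j : Fin 12, mCol mId j.1 = 2 ^ j.1 := by decide +kernel

theorem mId_lt : mId < 2 ^ 144 := by decide

theorem xfold_basis : ∀ x : Fin 4096, xfold (fun j => 2 ^ j) x.1 12 = x.1 := by decide +kernel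

theorem mMul_id_vec {x : ℕ} (hx : x < 4096) : mMul mId x = x := by
  rw [mMul_vec mId hx]
  refine Eq.trans ?_ (xfold_basis ⟨x, hx⟩)
  have step : ∀ k ≤ 12, xfold (mCol mId) x k = xfold (fun j => 2 ^ j) x k := by
    intro k hk
    induction k with
    | zero => rfl
    | succ k ih => rw [xfold_eq, xfold_eq, ih (by omega), mCol_mId ⟨k, by omega⟩]
  exact step 12 le_rfl

/-- Two matrices with the same images are equal. -/
theorem mat_ext_vec {a b : ℕ} (ha : a < 2 ^ 144) (hb : b < 2 ^ 144)
    (h : ∀ x < 4096, mMul a x = mMul b x) : a = b := by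
  refine mat_ext ha hb fun j hj => ?_
  have hp : 2 ^ j < 4096 := lt_of_lt_of_eq (Nat.pow_lt_pow_right (by norm_num) hj) (by norm_num)
  have key : ∀ m, mMul m (2 ^ j) = mCol m j := fun m => by
    rw [mMul_vec m hp]
    have step : ∀ k, xfold (mCol m) (2 ^ j) k = if j < k then mCol m j else 0 := by
      intro k
      induction k with
      | zero => rfl
      | succ k ih =>
        rw [xfold_eq, ih, Nat.testBit_two_pow]
        rcases lt_trichotomy j k with e | e | e
        · simp [e, e.ne, Nat.lt_succ_of_lt e]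
        · subst e; simp
        · simp [e.not_gt, e.ne', show ¬ j < k + 1 by omega]
    rw [step 12, if_pos hj]
  rw [← key a, ← key b, h _ hp]

theorem mMul_assoc (a b c : ℕ) : mMul (mMul a b) c = mMul a (mMul b c) :=
  mat_ext_vec (mMul_lt _ _) (mMul_lt _ _) fun x hx => by
    rw [mMul_assoc_vec _ c hx, mMul_assoc_vec a b (mMul_vec_lt c hx), mMul_assoc_vec a _ hx,
      mMul_assoc_vec b c hx]

theorem mPow_succ (m k : ℕ) : mPow m (k + 1) = mMul m (mPow m k) := rfl
theorem mSum_succ (m k : ℕ) : mSum m (k + 1) = mId ^^^ mMul m (mSum m k) := rfl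
theorem vSum_succ (m w k : ℕ) : vSum m w (k + 1) = w ^^^ mMul m (vSum m w k) := rfl

theorem vSum_lt (m : ℕ) {w : ℕ} (hw : w < 4096) : ∀ k, vSum m w k < 4096
  | 0 => by show (0 : ℕ) < 4096; norm_num
  | k + 1 => Nat.xor_lt_two_pow (n := 12) hw (mMul_vec_lt m (vSum_lt m hw k))

theorem mMul_xor_left (a b : ℕ) {x : ℕ} (hx : x < 4096) :
    mMul (a ^^^ b) x = mMul a x ^^^ mMul b x := by
  rw [mMul_vec _ hx, mMul_vec a hx, mMul_vec b hx]
  have step : ∀ k, xfold (mCol (a ^^^ b)) x k = xfold (mCol a) x k ^^^ xfold (mCol b) x k := by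
    intro k
    induction k with
    | zero => exact (Nat.xor_self 0).symm
    | succ k ih =>
      rw [xfold_eq, xfold_eq, xfold_eq, ih, mCol_xor]
      cases x.testBit k <;> simp [Nat.xor_assoc, Nat.xor_left_comm, Nat.xor_comm]
  exact step 12

theorem vSum_eq (m : ℕ) {w : ℕ} (hw : w < 4096) : ∀ k, vSum m w k = mMul (mSum m k) w
  | 0 => by
    show 0 = mMul 0 w
    rw [mMul_vec 0 hw]
    have step : ∀ k, xfold (mCol 0) w k = 0 := by
      intro k
      induction k with
      | zero => rfl
      | succ k ih =>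
        rw [xfold_eq, ih, mCol_div]
        simp
    exact (step 12).symm
  | k + 1 => by
    rw [vSum_succ, vSum_eq m hw k, mSum_succ, mMul_xor_left _ _ hw, mMul_id_vec hw, mMul_assoc_vec m _ hw]

end CfsgLib.JankoFourOrder
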