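import Cfsg.Agent.Lib.JankoFour.DuadClass
import Cfsg.Agent.Lib.JankoFourOrder.Central.Mat

/-!
# The centralizer of `z` modulo `z` as an affine group in codes (owner: helper17)

An element is `q x * n` with `n` in `N_H(P)`; its image is the pair of `x` and the matrix of `n`.
-/

set_option autoImplicit false
set_option linter.unusedSectionVars false

namespace CfsgLib.JankoFour

open Cfsg CfsgLib.ThreeTrans
open CfsgLib.JankoFourHexad (xfold pairB eU eW)
open CfsgLib.JankoFourOrder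

variable {G : Type*} [Group G] [Finite G]

namespace Setting

variable (S : Setting G)

/-- Equality up to `z`. -/
def Zm (a b : G) : Prop := a = b ∨ a = S.z * b

variable {S}

theorem Zm.refl (a : G) : S.Zm a a := Or.inl rfl

theorem zm_iff {a b : G} : S.Zm a b ↔ a * b⁻¹ ∈ Subgroup.zpowers S.z := by
  constructor
  · rintro (rfl | rfl)
    · simp
    · rw [mul_assoc, mul_inv_cancel, mul_one]; exact Subgroup.mem_zpowers _
  · intro h
    rcases S.hE.eq_or h with e | e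
    · exact Or.inl (mul_inv_eq_one.1 e)
    · exact Or.inr (mul_inv_eq_iff_eq_mul.1 e)

theorem Zm.symm {a b : G} (h : S.Zm a b) : S.Zm b a := by
  rcases h with rfl | rfl
  exacts [Zm.refl _, Or.inr (by rw [← mul_assoc, S.hE.mul_self_z, one_mul])]

theorem Zm.trans {a b c : G} (h : S.Zm a b) (h' : S.Zm b c) : S.Zm a c := by
  rcases h with rfl | rfl <;> rcases h' with rfl | rfl
  · exact Zm.refl _
  · exact Or.inr rfl
  · exact Or.inr rfl
  · left; rw [← mul_assoc, S.hE.mul_self_z, one_mul]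

theorem Zm.mul_left {a b : G} (h : S.Zm a b) {c : G} (hc : Commute c S.z) : S.Zm (c * a) (c * b) := by
  rcases h with rfl | rfl
  exacts [Zm.refl _, Or.inr (by rw [← mul_assoc, hc.eq, mul_assoc])]

theorem Zm.mul_right {a b : G} (h : S.Zm a b) (c : G) : S.Zm (a * c) (b * c) := by
  rcases h with rfl | rfl
  exacts [Zm.refl _, Or.inr (mul_assoc _ _ _)]

theorem Zm.mul {a b c d : G} (h : S.Zm a b) (h' : S.Zm c d) (hb : Commute b S.z) :
    S.Zm (a * c) (b * d) := (h.mul_right c).trans (h'.mul_left hb)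

theorem Zm.commute {a b : G} (h : S.Zm a b) (hb : Commute b S.z) : Commute a S.z := by
  rcases h with rfl | rfl
  exacts [hb, (Commute.refl _).mul_left hb]

theorem Zm.conj {a b : G} (h : S.Zm a b) {g : G} (hg : Commute g S.z) :
    S.Zm (g * a * g⁻¹) (g * b * g⁻¹) := (h.mul_left hg).mul_right _

theorem Zm.sq {a b : G} (h : S.Zm a b) (hb : Commute b S.z) : a * a = b * b := by
  rcases h with rfl | rfl
  · rfl
  · calc S.z * b * (S.z * b) = S.z * (b * S.z) * b := by group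
      _ = _ := by rw [hb.eq, ← mul_assoc, S.hE.mul_self_z, one_mul]

theorem norm_one : S.Norm (1 : G) := S.norm_of_mem_C (one_mem _)

theorem norm_z : S.Norm S.z := S.norm_of_mem_C S.z_mem_C

theorem norm_E {e : G} (he : e ∈ S.E) (hn : S.Norm e) : S.Zm e 1 := by
  refine zm_iff.2 ?_
  rw [inv_one, mul_one, ← S.hCP]
  refine ⟨he, Subgroup.mem_centralizer_iff.2 fun r hr => ?_⟩
  have h1 : e * r * e⁻¹ * r⁻¹ ∈ S.E := by
    rw [show e * r * e⁻¹ * r⁻¹ = e * (r * e⁻¹ * r⁻¹) by group]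
    exact mul_mem he (S.hE.conj_mem (S.P_commute_z hr) (inv_mem he))
  exact (mul_inv_eq_iff_eq_mul.1 (mul_inv_eq_one.1
    (S.P_inf_E (mul_mem (hn.2 r hr) (inv_mem hr)) h1))).symm

end Setting

namespace HexBase

variable {S : Setting G} (B : HexBase S)

open Setting (Zm)

theorem q_comm (x : ℕ) : Commute (B.q x) S.z := S.hE.commute_z (B.q_mem x)

theorem q_zero : B.q 0 = 1 := by rw [q, Nat.zero_mod, Nat.zero_div, U_zero, W_zero, one_mul]

theorem q_mul {a b : ℕ} (ha : a < 4096) (hb : b < 4096) : S.Zm (B.q a * B.q b) (B.q (a ^^^ b)) := by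
  have h1 : (a ^^^ b) % 64 = a % 64 ^^^ b % 64 := by
    rw [show (64 : ℕ) = 2 ^ 6 from rfl, Nat.xor_mod_two_pow]
  have h2 : (a ^^^ b) / 64 = a / 64 ^^^ b / 64 := by
    rw [show (64 : ℕ) = 2 ^ 6 from rfl, ← Nat.shiftRight_eq_div_pow, ← Nat.shiftRight_eq_div_pow,
      ← Nat.shiftRight_eq_div_pow, Nat.shiftRight_xor_distrib]
  rw [q, q, q, h1, h2, show a % 64 ^^^ b % 64 = Nat.xor (a % 64) (b % 64) from rfl, ← B.U_xor,
    show a / 64 ^^^ b / 64 = Nat.xor (a / 64) (b / 64) from rfl, ← B.W_xor]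
  set u := B.U (b % 64)
  set w := B.W (a / 64)
  have hu : u ∈ S.E := B.X.F1_le_E (B.U_mem _)
  have hw : w ∈ S.E := B.X.F2_le_E (B.W_mem _)
  have hz : Commute (B.U (a % 64)) S.z := S.hE.commute_z (B.X.F1_le_E (B.U_mem _))
  have hc : S.Zm (w * u) (u * w) := by
    rcases S.hE.conj_eq_or hw hu with e | e
    · exact Or.inl (mul_inv_eq_iff_eq_mul.1 e)
    · exact Or.inr (by rw [← mul_assoc]; exact mul_inv_eq_iff_eq_mul.1 e)
  have := ((hc.mul_left hz).mul_right (B.W (b / 64)))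
  simpa [mul_assoc] using this

theorem q_eq_of_zm {a b : ℕ} (ha : a < 4096) (hb : b < 4096) (h : S.Zm (B.q a) (B.q b)) : a = b :=
  B.q_inj ha hb (Setting.zm_iff.1 h)

theorem q_not_zm_one {a : ℕ} (ha : a < 4096) (h0 : a ≠ 0) : ¬ S.Zm (B.q a) 1 := fun h =>
  h0 (B.q_eq_of_zm ha (by norm_num) (by rwa [q_zero]))

theorem exists_q {x : G} (hx : x ∈ S.E) : ∃ a < 4096, S.Zm x (B.q a) := by
  obtain ⟨n, hn, rfl⟩ := B.el_surjective hx
  exact ⟨n / 2, by omega, Setting.zm_iff.2 (B.el_q hn)⟩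

/-- The square of a code element is read off the pairing. -/
theorem q_sq (x : ℕ) (hx : x < 4096) :
    B.q x * B.q x = if pairB (x % 64) (x / 64) = 0 then 1 else S.z := by
  have hu : B.U (x % 64) ∈ S.E := B.X.F1_le_E (B.U_mem _)
  have hw : B.W (x / 64) ∈ S.E := B.X.F2_le_E (B.W_mem _)
  have key : B.q x * B.q x = B.U (x % 64) * B.W (x / 64) * (B.U (x % 64))⁻¹ * (B.W (x / 64))⁻¹ := by
    rw [q, inv_eq_of_mul_eq_one_right (B.U_sq (x % 64)), inv_eq_of_mul_eq_one_right (B.W_sq (x / 64))]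
    group
  rw [key]
  have hp := B.pair_zero_iff (Nat.mod_lt x (by norm_num : 64 > 0)) (show x / 64 < 64 by omega)
  split_ifs with h
  · rw [(hp.2 h).eq]; group
  · rcases S.hE.eq_or (S.hE.comm_mem hu hw) with e | e
    · exact absurd (hp.1 (mul_inv_eq_iff_eq_mul.1 (mul_inv_eq_one.1 e))) h
    · exact e

/-- `n` acts on `E` modulo `z` by the matrix `m`. -/
def Acts (n : G) (m : ℕ) : Prop :=
  m < 2 ^ 144 ∧ ∀ x < 4096, S.Zm (n * B.q x * n⁻¹) (B.q (mMul m x))

theorem Acts.unique {n : G} {m m' : ℕ} (h : B.Acts n m) (h' : B.Acts n m') : m = m' :=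
  mat_ext_vec h.1 h'.1 fun x hx =>
    B.q_eq_of_zm (mMul_vec_lt m hx) (mMul_vec_lt m' hx) ((h.2 x hx).symm.trans (h'.2 x hx))

theorem acts_one : B.Acts 1 mId := ⟨mId_lt, fun x hx => by
  rw [mMul_id_vec hx, one_mul, inv_one, mul_one]; exact Zm.refl _⟩

theorem Acts.mul {n n' : G} {m m' : ℕ} (h : B.Acts n m) (h' : B.Acts n' m') (hn : Commute n S.z) :
    B.Acts (n * n') (mMul m m') := by
  refine ⟨mMul_lt _ _, fun x hx => ?_⟩
  rw [mMul_assoc_vec m m' hx,
    show n * n' * B.q x * (n * n')⁻¹ = n * (n' * B.q x * n'⁻¹) * n⁻¹ by group]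
  exact ((h'.2 x hx).conj hn).trans (h.2 _ (mMul_vec_lt m' hx))

theorem Acts.congr {n n' : G} {m : ℕ} (h : B.Acts n m) (e : S.Zm n' n) : B.Acts n' m := by
  refine ⟨h.1, fun x hx => ?_⟩
  rcases e with rfl | rfl
  · exact h.2 x hx
  · rw [show S.z * n * B.q x * (S.z * n)⁻¹ = S.z * (n * B.q x * n⁻¹) * S.z⁻¹ by group]
    refine ((h.2 x hx).conj (Commute.refl _)).trans (Or.inl ?_)
    rw [(B.q_comm _).symm.eq, mul_inv_cancel_right]

theorem Acts.inv {n : G} {m mi : ℕ} (h : B.Acts n m) (hn : Commute n S.z) (hmi : mi < 2 ^ 144)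
    (he : mMul m mi = mId) : B.Acts n⁻¹ mi := by
  refine ⟨hmi, fun x hx => ?_⟩
  have := h.2 _ (mMul_vec_lt mi hx)
  rw [← mMul_assoc_vec m mi hx, he, mMul_id_vec hx] at this
  have := this.symm.conj hn.inv_left
  rwa [inv_inv, show n⁻¹ * (n * B.q (mMul mi x) * n⁻¹) * n = B.q (mMul mi x) by group,
    show n⁻¹ * B.q x * n = n⁻¹ * B.q x * n⁻¹⁻¹ by rw [inv_inv]] at this

/-- The action from the images of the basis. -/
theorem acts_of_basis {n : G} (hn : Commute n S.z) {m : ℕ} (hm : m < 2 ^ 144)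
    (h : ∀ j < 12, S.Zm (n * B.q (2 ^ j) * n⁻¹) (B.q (mCol m j))) : B.Acts n m := by
  refine ⟨hm, fun x hx => ?_⟩
  rw [mMul_vec m hx]
  have hlt : ∀ k ≤ 12, xfold (fun j => 2 ^ j) x k < 4096 := by
    intro k hk
    induction k with
    | zero => show (0 : ℕ) < 4096; norm_num
    | succ k ih =>
      rw [xfold_eq]
      refine Nat.xor_lt_two_pow (n := 12) (ih (by omega)) ?_
      split_ifs
      exacts [Nat.pow_lt_pow_right (by norm_num) (by omega), by norm_num]
  have step : ∀ k ≤ 12, S.Zm (n * B.q (xfold (fun j => 2 ^ j) x k) * n⁻¹)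
      (B.q (xfold (mCol m) x k)) := by
    intro k hk
    induction k with
    | zero =>
      show S.Zm (n * B.q 0 * n⁻¹) (B.q 0)
      rw [q_zero, mul_one, mul_inv_cancel]; exact Zm.refl _
    | succ k ih =>
      rw [xfold_eq, xfold_eq]
      split_ifs with hb
      · have hp : 2 ^ k < 4096 := lt_of_lt_of_eq (Nat.pow_lt_pow_right (by norm_num) (by omega : k < 12))
          (by norm_num)
        refine ((B.q_mul (hlt k (by omega)) hp).symm.conj hn).trans ?_
        rw [show n * (B.q (xfold (fun j => 2 ^ j) x k) * B.q (2 ^ k)) * n⁻¹ =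
          (n * B.q (xfold (fun j => 2 ^ j) x k) * n⁻¹) * (n * B.q (2 ^ k) * n⁻¹) by group]
        exact ((ih (by omega)).mul (h k (by omega)) (B.q_comm _)).trans
          (B.q_mul (xfold_lt12 (mCol_lt m) x k) (mCol_lt m k))
      · simpa using ih (by omega)
  have := step 12 le_rfl
  rwa [xfold_basis ⟨x, hx⟩] at this

/-- A matrix with given columns. -/
noncomputable def packCols : ℕ → (ℕ → ℕ) → ℕ
  | 0, _ => 0
  | k + 1, f => f 0 + 4096 * packCols k (fun j => f (j + 1))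

theorem packCols_spec : ∀ (k : ℕ) (f : ℕ → ℕ), (∀ j < k, f j < 4096) →
    packCols k f < 4096 ^ k ∧ ∀ j < k, mCol (packCols k f) j = f j
  | 0, f, _ => ⟨by simp [packCols], fun j hj => absurd hj (Nat.not_lt_zero j)⟩
  | k + 1, f, h => by
    obtain ⟨h1, h2⟩ := packCols_spec k (fun j => f (j + 1)) (fun j hj => h (j + 1) (by omega))
    have h0 := h 0 (by omega)
    refine ⟨?_, fun j hj => ?_⟩
    · rw [packCols, pow_succ]; omega
    · rw [mCol_div, packCols]
      rcases Nat.eq_zero_or_pos j with rfl | hj0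
      · simp [Nat.add_mul_mod_self_left, Nat.mod_eq_of_lt h0]
      · obtain ⟨i, rfl⟩ : ∃ i, j = i + 1 := ⟨j - 1, by omega⟩
        rw [pow_succ', ← Nat.div_div_eq_div_mul, Nat.add_mul_div_left _ _ (by norm_num : 0 < 4096),
          Nat.div_eq_of_lt h0, zero_add, ← mCol_div]
        exact h2 i (by omega)

theorem exists_acts {n : G} (hn : Commute n S.z) : ∃ m, B.Acts n m := by
  classical
  choose f hf hfz using fun j : ℕ => B.exists_q (S.hE.conj_mem hn (B.q_mem (2 ^ j)))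
  obtain ⟨h1, h2⟩ := packCols_spec 12 f fun j _ => hf j
  exact ⟨_, B.acts_of_basis hn (lt_of_lt_of_eq h1 (by norm_num)) fun j hj => by
    rw [h2 j hj]; exact hfz j⟩

theorem acts_kernel {n : G} (hn : S.Norm n) (h : B.Acts n mId) : S.Zm n 1 := by
  refine Setting.norm_E (S.hE.mem_of_trivial hn.1 fun e he => ?_) hn
  obtain ⟨a, ha, hea⟩ := B.exists_q he
  have := ((hea.conj hn.1).trans (h.2 a ha))
  rw [mMul_id_vec ha] at this
  exact Setting.zm_iff.1 (this.trans hea.symm)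

theorem acts_det {n n' : G} {m : ℕ} (hn : S.Norm n) (hn' : S.Norm n') (h : B.Acts n m) (h' : B.Acts n' m) :
    S.Zm n n' := by
  obtain ⟨m', hm'⟩ := B.exists_acts hn'.1.inv_left
  have e := (hm'.mul B h' hn'.1.inv_left).unique B (by rw [inv_mul_cancel]; exact B.acts_one)
  have := B.acts_kernel ((hn'.inv S).mul S hn) (e ▸ hm'.mul B h hn'.1.inv_left)
  simpa using this.mul_left hn'.1

/-- The image of `u`: a code and a matrix. -/
def Img (u : G) (x m : ℕ) : Prop :=
  x < 4096 ∧ ∃ n, S.Norm n ∧ B.Acts n m ∧ S.Zm u (B.q x * n)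

theorem Img.congr {u u' : G} {x m : ℕ} (h : B.Img u x m) (e : S.Zm u' u) : B.Img u' x m := by
  obtain ⟨hx, n, hn, ha, hu⟩ := h
  exact ⟨hx, n, hn, ha, e.trans hu⟩

theorem Img.commute {u : G} {x m : ℕ} (h : B.Img u x m) : Commute u S.z := by
  obtain ⟨hx, n, hn, ha, hu⟩ := h
  exact hu.commute ((B.q_comm x).mul_left hn.1)

theorem Img.unique {u : G} {x x' m m' : ℕ} (h : B.Img u x m) (h' : B.Img u x' m') :
    x = x' ∧ m = m' := by
  obtain ⟨hx, n, hn, ha, hu⟩ := h
  obtain ⟨hx', n', hn', ha', hu'⟩ := h'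
  have e : S.Zm (B.q x * n) (B.q x' * n') := hu.symm.trans hu'
  have e2 : S.Zm ((B.q x')⁻¹ * B.q x) (n' * n⁻¹) := by
    have h1 := (e.mul_left (B.q_comm x').inv_left).mul_right n⁻¹
    simpa [mul_assoc] using h1
  have hE : (B.q x')⁻¹ * B.q x ∈ S.E := mul_mem (inv_mem (B.q_mem _)) (B.q_mem _)
  have hE' : n' * n⁻¹ ∈ S.E := by
    rcases e2.symm with r | r <;> rw [r]
    exacts [hE, mul_mem S.hE.z_mem hE]
  have h1 : S.Zm (n' * n⁻¹) 1 := Setting.norm_E hE' (hn'.mul S (hn.inv S))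
  refine ⟨B.q_eq_of_zm hx hx' ?_, ?_⟩
  · simpa [mul_assoc] using (e2.trans h1).mul_left (B.q_comm x')
  · exact (ha.congr B (by simpa using h1.mul_right n)).unique B ha'

theorem img_exists {u : G} (hu : Commute u S.z) : ∃ x m, B.Img u x m := by
  obtain ⟨e, he, n, hn, rfl⟩ := S.C_pair hu
  obtain ⟨x, hx, hex⟩ := B.exists_q he
  obtain ⟨m, hm⟩ := B.exists_acts hn.1
  exact ⟨x, m, hx, n, hn, hm, hex.mul_right n⟩

theorem img_one : B.Img 1 0 mId :=
  ⟨by norm_num, 1, Setting.norm_one, B.acts_one, by rw [q_zero, one_mul]; exact Zm.refl _⟩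

theorem img_norm {n : G} (hn : S.Norm n) {m : ℕ} (h : B.Acts n m) : B.Img n 0 m :=
  ⟨by norm_num, n, hn, h, by rw [q_zero, one_mul]; exact Zm.refl _⟩

theorem img_q {x : ℕ} (hx : x < 4096) : B.Img (B.q x) x mId :=
  ⟨hx, 1, Setting.norm_one, B.acts_one, by rw [mul_one]; exact Zm.refl _⟩

theorem Img.mul {u v : G} {x y m m' : ℕ} (h : B.Img u x m) (h' : B.Img v y m') :
    B.Img (u * v) (x ^^^ mMul m y) (mMul m m') := by
  obtain ⟨hx, n, hn, ha, hu⟩ := h
  obtain ⟨hy, n', hn', ha', hv⟩ := h'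
  have hmy := mMul_vec_lt m hy
  refine ⟨Nat.xor_lt_two_pow (n := 12) hx hmy, n * n', hn.mul S hn', ha.mul B ha' hn.1, ?_⟩
  refine (hu.mul hv ((B.q_comm x).mul_left hn.1)).trans ?_
  rw [show B.q x * n * (B.q y * n') = B.q x * (n * B.q y * n⁻¹) * (n * n') by group]
  exact (((ha.2 y hy).mul_left (B.q_comm x)).trans (B.q_mul hx hmy)).mul_right _

theorem Img.pow {u : G} {x m : ℕ} (h : B.Img u x m) : ∀ k, B.Img (u ^ k) (vSum m x k) (mPow m k)
  | 0 => by rw [pow_zero]; exact B.img_one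
  | k + 1 => by rw [pow_succ', vSum_succ, mPow_succ]; exact h.mul B (Img.pow h k)

theorem img_mId_iff {u : G} {x : ℕ} (h : B.Img u x mId) : S.Zm u (B.q x) := by
  obtain ⟨hx, n, hn, ha, hu⟩ := h
  refine hu.trans ?_
  simpa using (B.acts_kernel hn ha).mul_left (B.q_comm x)

theorem zm_of_img {u v : G} {x m : ℕ} (h : B.Img u x m) (h' : B.Img v x m) : S.Zm u v := by
  obtain ⟨hx, n, hn, ha, hu⟩ := h
  obtain ⟨-, n', hn', ha', hv⟩ := h'
  exact hu.trans (((B.acts_det hn hn' ha ha').mul_left (B.q_comm x)).trans hv.symm)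

theorem sq_eq_of_img {u v : G} {x m : ℕ} (h : B.Img u x m) (h' : B.Img v x m) : u * u = v * v :=
  (B.zm_of_img h h').sq (h'.commute B)

end HexBase

end CfsgLib.JankoFour
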