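import Cfsg.Agent.Lib.JankoFourOrder.Central.Group
import Cfsg.Agent.Lib.JankoFourOrder.Central.CheckGroup
import Cfsg.Agent.Lib.JankoFourOrder.Central.CheckList
import Cfsg.Agent.Lib.JankoFourHexad.Orbits

/-!
# Words in the two generators and the classes of the listed matrices (owner: helper17)
-/

set_option autoImplicit false
set_option linter.unusedSectionVars false

namespace CfsgLib.JankoFourOrder.Central

open CfsgLib.Sporadic (forallLt forallLt_elim)

theorem mMul_mId {a : ℕ} (ha : a < 2 ^ 144) : mMul a mId = a :=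
  mat_ext_vec (mMul_lt _ _) ha fun x hx => by rw [mMul_assoc_vec a mId hx, mMul_id_vec hx]

theorem mId_mMul {a : ℕ} (ha : a < 2 ^ 144) : mMul mId a = a :=
  mat_ext_vec (mMul_lt _ _) ha fun x hx => by
    rw [mMul_assoc_vec mId a hx, mMul_id_vec (mMul_vec_lt a hx)]

theorem wordMat_nil : wordMat [] = mId := rfl

theorem wordMat_cons (g : ℕ) (w : List ℕ) : wordMat (g :: w) = mMul (genM g) (wordMat w) := rfl

theorem wordMat_lt (w : List ℕ) : wordMat w < 2 ^ 144 := by
  cases w
  exacts [mId_lt, mMul_lt _ _]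

/-- A matrix permutes the list by conjugation. -/
def Closed (m : ℕ) : Prop := ∀ i < 6304, ∃ j < 6304, mMul m (LT i) = mMul (LT j) m

theorem closed_mId : Closed mId := fun i hi =>
  ⟨i, hi, by rw [mMul_mId (LT_lt i), mId_mMul (LT_lt i)]⟩

theorem Closed.mMul {a b : ℕ} (ha : Closed a) (hb : Closed b) : Closed (JankoFourOrder.mMul a b) := by
  intro i hi
  obtain ⟨j, hj, e⟩ := hb i hi
  obtain ⟨k, hk, e'⟩ := ha j hj
  exact ⟨k, hk, by rw [mMul_assoc, e, ← mMul_assoc, e', mMul_assoc]⟩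

theorem closed_word : ∀ {w : List ℕ}, (∀ g ∈ w, g < 2) → Closed (wordMat w)
  | [], _ => closed_mId
  | g :: w, h => by
    have hg : g < 2 := h g (List.mem_cons_self ..)
    rw [wordMat_cons]
    exact Closed.mMul (fun i hi => ⟨piAt g i, (pi_ok hg hi).1, (pi_ok hg hi).2⟩)
      (closed_word fun x hx => h x (List.mem_cons_of_mem _ hx))

/-- Every matrix of the list is conjugate to its representative. -/
theorem class_word : ∀ {i : ℕ}, i < 6304 → ∃ w : List ℕ, (∀ g ∈ w, g < 2) ∧
    mMul (LT i) (wordMat w) = mMul (wordMat w) (repM (clsOf i)) := by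
  intro i
  induction i using Nat.strong_induction_on with
  | _ i ih =>
    intro hi
    have h := split_check par_a par_b hi
    rw [parOK] at h
    split_ifs at h with hs
    · refine ⟨[], fun g hg => by simp at hg, ?_⟩
      rw [Nat.beq_eq] at h
      rw [wordMat_nil, mMul_mId (LT_lt i), ← h, mId_mMul (LT_lt i)]
    · simp only [Bool.and_eq_true, Nat.blt_eq, Nat.beq_eq] at h
      obtain ⟨⟨hp, hc⟩, he⟩ := h
      obtain ⟨w, hw, e⟩ := ih _ hp (by omega)
      have hg : Nat.land (parCode i) 1 < 2 := Nat.lt_succ_of_le Nat.and_le_right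
      refine ⟨Nat.land (parCode i) 1 :: w, fun g hgm => ?_, ?_⟩
      · rcases List.mem_cons.1 hgm with rfl | r
        exacts [hg, hw g r]
      · rw [wordMat_cons, ← mMul_assoc, ← he, mMul_assoc, e, hc, ← mMul_assoc]

end CfsgLib.JankoFourOrder.Central

namespace CfsgLib.JankoFour

open Cfsg CfsgLib.ThreeTrans CfsgLib.JankoFourOrder CfsgLib.JankoFourOrder.Central
open CfsgLib.JankoFourHexad (qWord)
open CfsgLib.Sporadic (forallLt forallLt_elim)

variable {G : Type*} [Group G] [Finite G]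

namespace HexBase

variable {S : Setting G} (B : HexBase S)

theorem acts_of_actsQ {t : G} (ht : Commute t S.z) {f : ℕ → ℕ} (h : B.ActsQ t f) {m : ℕ} (hm : m < 2 ^ 144)
    (hc : ∀ j < 12, f (2 ^ j) = mCol m j) : B.Acts t m :=
  B.acts_of_basis ht hm fun j hj => by
    rw [← hc j hj]
    exact Setting.zm_iff.2 (h _ (lt_of_lt_of_eq (Nat.pow_lt_pow_right (by norm_num) hj) (by norm_num))).2

/-- A word in the two generators is the action of an element of `C`. -/
theorem exists_word_acts : ∀ {w : List ℕ}, (∀ g ∈ w, g < 2) → ∃ W ∈ S.C, B.Acts W (wordMat w)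
  | [], _ => ⟨1, one_mem _, B.acts_one⟩
  | g :: w, h => by
    obtain ⟨W, hW, hWa⟩ := exists_word_acts (w := w) fun x hx => h x (List.mem_cons_of_mem _ hx)
    have hg := forallLt_elim gen_ok (h g (List.mem_cons_self ..))
    simp only [Bool.and_eq_true, Nat.blt_eq, Nat.beq_eq, List.all_eq_true] at hg
    obtain ⟨⟨⟨⟨⟨hlet, hlt⟩, -⟩, -⟩, -⟩, hcol⟩ := hg
    obtain ⟨t, ht, hta⟩ := B.exists_word (genWord.getD g []) hlet
    have hzc : ∀ {x : G}, x ∈ S.C → Commute x S.z := fun hx => Frame.commute_z hx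
    refine ⟨t * W, mul_mem ht hW, ?_⟩
    rw [wordMat_cons]
    exact (B.acts_of_actsQ (hzc ht) hta hlt fun j hj =>
      Nat.eq_of_beq_eq_true (forallLt_elim hcol hj)).mul B hWa (hzc ht)

/-- `u` has the matrix `m` on `E` modulo `z`. -/
def Mat (u : G) (m : ℕ) : Prop := ∃ x, B.Img u x m

theorem mat_exists {u : G} (hu : Commute u S.z) : ∃ m, B.Mat u m := by
  obtain ⟨x, m, h⟩ := B.img_exists hu
  exact ⟨m, x, h⟩

theorem Mat.unique {u : G} {m m' : ℕ} (h : B.Mat u m) (h' : B.Mat u m') : m = m' := by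
  obtain ⟨x, h⟩ := h
  obtain ⟨x', h'⟩ := h'
  exact (h.unique B h').2

theorem Mat.mul {u v : G} {m m' : ℕ} (h : B.Mat u m) (h' : B.Mat v m') : B.Mat (u * v) (mMul m m') := by
  obtain ⟨x, h⟩ := h
  obtain ⟨x', h'⟩ := h'
  exact ⟨_, h.mul B h'⟩

theorem Mat.commute {u : G} {m : ℕ} (h : B.Mat u m) : Commute u S.z := by
  obtain ⟨x, h⟩ := h
  exact h.commute B

theorem mat_one : B.Mat 1 mId := ⟨0, B.img_one⟩

theorem mat_of_acts {n : G} (hn : S.Norm n) {m : ℕ} (h : B.Acts n m) : B.Mat n m := ⟨0, B.img_norm hn h⟩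

theorem Mat.congr {u u' : G} {m : ℕ} (h : B.Mat u m) (e : S.Zm u' u) : B.Mat u' m := by
  obtain ⟨x, h⟩ := h
  exact ⟨x, h.congr B e⟩

/-- Conjugation transports the matrix. -/
theorem Mat.conj {g v : G} {h a a' : ℕ} (hg : B.Mat g h) (hv : B.Mat v a) (ha : a' < 2 ^ 144)
    (e : JankoFourOrder.mMul h a = JankoFourOrder.mMul a' h) : B.Mat (g * v * g⁻¹) a' := by
  obtain ⟨hi, hgi⟩ := B.mat_exists (hg.commute B).inv_left
  have h1 : mMul h hi = mId := (hg.mul B hgi).unique B (by rw [mul_inv_cancel]; exact B.mat_one)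
  have := (hg.mul B hv).mul B hgi
  rwa [e, mMul_assoc, h1, mMul_mId ha] at this

end HexBase

end CfsgLib.JankoFour
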