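import Cfsg.Agent.Lib.JankoFourOrder.Central.Tables

/-!
# The lifts over the class representatives and over the singular vectors (owner: helper17)
-/

set_option autoImplicit false
set_option maxRecDepth 100000

namespace CfsgLib.JankoFourOrder.Central

open CfsgLib.Sporadic CfsgLib.JankoFourHexad
open CfsgLib.ThreeTrans.M24Inv (peq)

/-- The mask of the fixed vectors of a representative. -/
noncomputable def tableMask (c : ℕ) : ℕ :=
  (repTable.getD c []).foldl (fun k e => Nat.lor k (Nat.shiftLeft 1 e.1)) 0

/-- The entries of a table increase. -/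
noncomputable def increasing : List ℕ → Bool
  | [] => true
  | a :: l => (match l with | [] => true | b :: _ => Nat.blt a b) && increasing l

/-- The singular vector at a position, with parent and generator. -/
noncomputable def eAt (i : ℕ) : ℕ :=
  Nat.land (Nat.shiftRight (eTree.get (Nat.shiftRight i 5)) (Nat.mul 25 (Nat.land i 31))) 33554431

/-- The vector. -/
noncomputable def eVec (i : ℕ) : ℕ := Nat.land (eAt i) 4095

/-- One step of the tree. -/
noncomputable def eOK (i : ℕ) : Bool :=
  if Nat.beq i 0 || Nat.beq i 693 then true
  else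
    let p := Nat.land (Nat.shiftRight (eAt i) 12) 4095
    Nat.blt p i && (Nat.blt i 693 == Nat.blt p 693) &&
      Nat.beq (mMul (genM (Nat.shiftRight (eAt i) 24)) (eVec p)) (eVec i)

theorem table_ok : forallLt 3 (fun c => (repTable.getD c []).all (fun e =>
    Nat.blt e.1 4096 && Nat.beq (mMul (repM c) e.1) e.1 &&
      flagOK (repEl.getD c (0, 0)).1 (repEl.getD c (0, 0)).2 e.1 e.2) &&
    increasing ((repTable.getD c []).map Prod.fst)) = true := by decide +kernel

theorem table_fix : forallLt 3 (fun c => forallLt 4096 fun y =>
    !Nat.beq (mMul (repM c) y) y || Nat.testBit (tableMask c) y) = true := by decide +kernel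

theorem e_tree : forallLt 2079 eOK = true := by decide +kernel

/-- The lifts of a singular vector: code and permutation. -/
noncomputable def eRootOK (y : ℕ) (z : Bool) : Bool :=
  let n := Nat.shiftLeft (Nat.land y 63) 1
  let q := wPerm (Nat.shiftRight y 6)
  fastZ n q == z && fastZ (Nat.xor n 1) q == z

theorem e_roots : eRootOK (eVec 0) true = true ∧ eRootOK (eVec 693) false = true := by decide +kernel

theorem e_kinds : forallLt 2079 (fun i =>
    if Nat.blt i 693 then Nat.testBit zMask (eVec i) else Nat.testBit tMask (eVec i)) = true := by decide +kernel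

theorem e_cover : forallLt 4096 (fun y => Nat.beq y 0 || (!Nat.beq (pairB (Nat.land y 63) (Nat.shiftRight y 6)) 0) ||
    Nat.testBit zMask y || Nat.testBit tMask y) = true := by decide +kernel

theorem lists_ok : increasing zList = true ∧ increasing tList = true ∧
    zList.foldl (fun k y => Nat.lor k (Nat.shiftLeft 1 y)) 0 = zMask ∧
    tList.foldl (fun k y => Nat.lor k (Nat.shiftLeft 1 y)) 0 = tMask ∧
    zList.all (fun y => Nat.blt y 4096 && !Nat.beq y 0 && Nat.beq (pairB (Nat.land y 63) (Nat.shiftRight y 6)) 0) = true ∧
    tList.all (fun y => Nat.blt y 4096 && !Nat.beq y 0 && Nat.beq (pairB (Nat.land y 63) (Nat.shiftRight y 6)) 0) = true ∧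
    Nat.land zMask tMask = 0 := by decide +kernel

end CfsgLib.JankoFourOrder.Central
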