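import Cfsg.Agent.Lib.JankoFourOrder.Central.RepData
import Cfsg.Agent.Lib.JankoFourOrder.Central.DataRep0

/-!
# The checks for representative 0 (owner: helper17)
-/

set_option autoImplicit false
set_option maxRecDepth 100000

namespace CfsgLib.JankoFourOrder.Central.Rep0

open CfsgLib.Sporadic

/-- The representative. -/
noncomputable def data : RepData :=
  ⟨5, mId, seqTree, posTree, stepTree, rootTree, roots, gens⟩

theorem gens_ok : data.gensOK = true := by decide +kernel

theorem roots_ok : roots.all data.rootOK = true := by decide +kernel

theorem steps_a : forallLt 3152 data.stepOK = true := by decide +kernel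

theorem steps_b : forallLt 3152 (fun j => data.stepOK (3152 + j)) = true := by decide +kernel

theorem total_eq : data.total = 257408 := by decide +kernel

end CfsgLib.JankoFourOrder.Central.Rep0
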