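import Cfsg.Agent.Lib.JankoFourOrder.Central.Tables

/-!
# The count over one representative: the checked ingredients (owner: helper17)
-/

set_option autoImplicit false

namespace CfsgLib.JankoFourOrder.Central

open CfsgLib.Sporadic CfsgLib.JankoFourHexad

/-- A representative with a partition of the list under its stabilizer. -/
structure RepData where
  /-- the code -/
  x : ℕ
  /-- the matrix -/
  sig : ℕ
  /-- the order of the tree -/
  seq : QTree
  /-- positions -/
  pos : QTree
  /-- parents and generators -/
  step : QTree
  /-- numbers of the roots -/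
  root : QTree
  /-- roots with certificates and values -/
  roots : List (ℕ × List ℕ × ℕ × ℕ × List ℕ × ℕ × ℕ)
  /-- generators -/
  gens : List (List ℕ × Bool × ℕ × ℕ × ℕ)

/-- The mask of the vectors with lifts of order four over the first representative. -/
def fourMask : ℕ := 1635258711864108076597452312445766545964778459296923129805037109914430961853042927799626994266564663935430603108230885918907847075317619946638605023796749617433034341569526847464975854164220322899006828389084618092241853368578963455856543720557893230461243885660678916022783995839566973071551874771744476035290042532892679376785170136386905832921010235598972517266896687502366353830451966558903346665314861075133577706230227343972191737726380338847034915135104397242059356969551178200999232341853498752654611688818425068639490363916727476790919231761534381102866962076317713878334758344053863664214215520214259690684828907668544147798320927406155761322343122353802476255602189515254813979838537190861303543812986844344526522934873407405229690628565532846051929761825105633007397686198458198250531682791996739784160005593579496307204813225831485334335375663264877378047106823275271217748167702991653603162673041822838091761135035150720040960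

/-- The vectors with lifts of order four. -/
noncomputable def isFour (c y : ℕ) : Bool := Nat.beq c 0 && Nat.testBit fourMask y

/-- The number of lifts in the second class, from a flag. -/
def tWeight (f : ℕ) : ℕ := [0, 0, 2, 1].getD f 0

/-- The weighted vectors over a class. -/
noncomputable def tEntries (c : ℕ) : List (ℕ × ℕ) :=
  if Nat.beq c 3 then tList.map fun y => (y, 2) else (repTable.getD c []).map fun e => (e.1, tWeight e.2)

/-- The criterion, given the sums of powers. -/
noncomputable def critB (sm hm mi k hc w : ℕ) : Bool :=
  if Nat.beq (mMul sm w) 0 then Nat.beq (Nat.mod k 2) 1 || isFour hc (mMul mi (mMul hm w))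
  else !Nat.beq (pairB (Nat.land (mMul sm w) 63) (Nat.shiftRight (mMul sm w) 6)) 0

namespace RepData

variable (R : RepData)

/-- A root's number. -/
noncomputable def rootAt (j : ℕ) : ℕ :=
  Nat.land (Nat.shiftRight (R.root.get (Nat.shiftRight j 6)) (Nat.mul 6 (Nat.land j 63))) 63

/-- Parent and generator. -/
noncomputable def stepAt (j : ℕ) : ℕ :=
  Nat.land (Nat.shiftRight (R.step.get (Nat.shiftRight j 6)) (Nat.mul 15 (Nat.land j 63))) 32767

/-- An entry of the tree. -/
noncomputable def seqAt (j : ℕ) : ℕ := arr13 R.seq j

/-- The matrix of a generator. -/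
noncomputable def hMat (g : ℕ) : ℕ := (R.gens.getD g ([], false, 0, mId, mId)).2.2.2.1

/-- A generator fixes the representative. -/
noncomputable def gensOK : Bool :=
  R.gens.all fun e =>
    e.1.all (fun x => Nat.blt x 2) && Nat.blt e.2.2.1 4096 && Nat.blt e.2.2.2.2 (2 ^ 144) &&
      Nat.beq e.2.2.2.1 (if e.2.1 then mMul (repM 1) (wordMat e.1) else wordMat e.1) &&
      Nat.beq (mMul e.2.2.2.1 e.2.2.2.2) mId && Nat.beq (mMul e.2.2.2.1 R.sig) (mMul R.sig e.2.2.2.1) &&
      Nat.beq (Nat.xor R.x (mMul R.sig e.2.2.1)) (Nat.xor e.2.2.1 (mMul e.2.2.2.1 R.x))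

/-- One step of the tree. -/
noncomputable def stepOK (j : ℕ) : Bool :=
  Nat.blt (R.seqAt j) 6304 && Nat.blt (arr13 R.pos j) 6304 && Nat.beq (R.seqAt (arr13 R.pos j)) j &&
    Nat.blt (R.rootAt j) R.roots.length &&
    (if Nat.beq (Nat.shiftRight (R.stepAt j) 2) j then
        Nat.beq (R.seqAt j) (R.roots.getD (R.rootAt j) (0, [], 0, 0, [], 0, 0)).1
      else Nat.blt (Nat.shiftRight (R.stepAt j) 2) j &&
        Nat.blt (Nat.land (R.stepAt j) 3) R.gens.length &&
        Nat.beq (R.rootAt j) (R.rootAt (Nat.shiftRight (R.stepAt j) 2)) &&
        Nat.beq (mMul (R.hMat (Nat.land (R.stepAt j) 3)) (LT (R.seqAt (Nat.shiftRight (R.stepAt j) 2))))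
          (mMul (LT (R.seqAt j)) (R.hMat (Nat.land (R.stepAt j) 3))))

/-- The count over one root. -/
noncomputable def rootVal (i : ℕ) (w : List ℕ) (k : ℕ) (hl : ℕ) (mi : ℕ) : ℕ :=
  let m := wordMat w
  let sm := mSum (mMul R.sig (LT i)) k
  let hm := mSum (mMul R.sig (LT i)) (Nat.div k 2)
  (tEntries (clsOf i)).foldr (fun e s =>
    Nat.add (cond (critB sm hm mi k (clsOf hl) (Nat.xor R.x (mMul R.sig (mMul m e.1)))) e.2 0) s) 0

/-- The certificates of a root. -/
noncomputable def rootOK : ℕ × List ℕ × ℕ × ℕ × List ℕ × ℕ × ℕ → Bool
  | (i, w, k, hl, hw, mi, v) =>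
    let m := wordMat w
    let rho := mMul R.sig (LT i)
    Nat.blt i 6304 && w.all (fun x => Nat.blt x 2) &&
      Nat.beq (mMul (LT i) m) (mMul m (repM (clsOf i))) &&
      Nat.blt 0 k && Nat.beq (mPow rho k) mId &&
      forallLt k (fun j => Nat.beq j 0 || !Nat.beq (mPow rho j) mId) &&
      Nat.blt mi (2 ^ 144) &&
      (Nat.beq (Nat.mod k 2) 1 ||
        (Nat.blt hl 6303 && hw.all (fun x => Nat.blt x 2) && Nat.beq (LT hl) (mPow rho (Nat.div k 2)) &&
          Nat.beq (mMul (wordMat hw) mi) mId &&
          Nat.beq (mMul (LT hl) (wordMat hw)) (mMul (wordMat hw) (repM (clsOf hl))))) &&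
      Nat.beq (R.rootVal i w k hl mi) v

/-- The sum of the values over the list. -/
noncomputable def total : ℕ :=
  Nat.rec 0 (fun j s => Nat.add (R.roots.getD (R.rootAt j) (0, [], 0, 0, [], 0, 0)).2.2.2.2.2.2 s) 6304

end RepData

end CfsgLib.JankoFourOrder.Central
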