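import Cfsg.Agent.Lib.JankoFourOrder.Central.Elements
import Cfsg.Agent.Lib.JankoFourOrder.Central.Words
import Cfsg.Agent.Lib.JankoFourOrder.Central.CheckClasses
import Cfsg.Agent.Lib.JankoFourOrder.Central.RepData
import Cfsg.Agent.Lib.JankoFourFive.Base

/-!
# Involutions over the representatives, by class (owner: helper17)
-/

set_option autoImplicit false
set_option linter.unusedSectionVars false
set_option maxRecDepth 100000

namespace CfsgLib.JankoFourOrder.Central

open CfsgLib.Sporadic (forallLt forallLt_elim)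

theorem fold_mask {α : Type*} (f : α → ℕ) : ∀ (l : List α) (k y : ℕ),
    (l.foldl (fun k e => Nat.lor k (Nat.shiftLeft 1 (f e))) k).testBit y = true →
      k.testBit y = true ∨ ∃ e ∈ l, f e = y
  | [], k, y, h => Or.inl h
  | a :: l, k, y, h => by
    rcases fold_mask f l _ y h with h' | ⟨e, he, hey⟩
    · change (k ||| (1 <<< f a)).testBit y = true at h'
      rw [Nat.testBit_or, Bool.or_eq_true, Nat.shiftLeft_eq, one_mul, Nat.testBit_two_pow, decide_eq_true_eq] at h'
      exact h'.imp id fun e => ⟨a, List.mem_cons_self .., e⟩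
    · exact Or.inr ⟨e, List.mem_cons_of_mem _ he, hey⟩

theorem mask_fold {α : Type*} (f : α → ℕ) : ∀ (l : List α) (k y : ℕ),
    (k.testBit y = true ∨ ∃ e ∈ l, f e = y) →
      (l.foldl (fun k e => Nat.lor k (Nat.shiftLeft 1 (f e))) k).testBit y = true
  | [], k, y, h => h.resolve_right (by simp)
  | a :: l, k, y, h => by
    refine mask_fold f l _ y ?_
    show (k ||| (1 <<< f a)).testBit y = true ∨ _
    rw [Nat.testBit_or, Bool.or_eq_true, Nat.shiftLeft_eq, one_mul, Nat.testBit_two_pow, decide_eq_true_eq]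
    rcases h with h | ⟨e, he, hey⟩
    · exact Or.inl (Or.inl h)
    · rcases List.mem_cons.1 he with rfl | r
      exacts [Or.inl (Or.inr hey), Or.inr ⟨e, r, hey⟩]

theorem nodup_of_increasing : ∀ {l : List ℕ}, increasing l = true → l.Nodup
  | [], _ => List.nodup_nil
  | [a], _ => List.nodup_singleton a
  | a :: b :: l, h => by
    simp only [increasing, Bool.and_eq_true, Nat.blt_eq] at h
    have key : ∀ (l : List ℕ) (b : ℕ), increasing (b :: l) = true → ∀ x ∈ b :: l, b ≤ x := by
      intro l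
      induction l with
      | nil => intro b _ x hx; simp only [List.mem_singleton] at hx; omega
      | cons c l ih =>
        intro b hb x hx
        simp only [increasing, Bool.and_eq_true, Nat.blt_eq] at hb
        rcases List.mem_cons.1 hx with rfl | r
        · exact le_rfl
        · have := ih c (by simp only [increasing, Bool.and_eq_true, Nat.blt_eq]; exact hb.2) x r
          omega
    have h2 : increasing (b :: l) = true := by simp only [increasing, Bool.and_eq_true, Nat.blt_eq]; exact h.2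
    refine List.nodup_cons.2 ⟨fun hm => ?_, nodup_of_increasing h2⟩
    have := key l b h2 a hm
    omega

/-- The mask of the first singular vectors of the tree. -/
noncomputable def eMask (s k : ℕ) : ℕ :=
  Nat.rec 0 (fun i m => Nat.lor m (Nat.shiftLeft 1 (eVec (Nat.add s i)))) k

theorem e_masks : eMask 0 693 = zMask ∧ eMask 693 1386 = tMask := by decide +kernel

theorem eMask_bit (s : ℕ) : ∀ (k y : ℕ), (eMask s k).testBit y = true → ∃ i < k, eVec (s + i) = y
  | 0, y, h => by simp [eMask] at h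
  | k + 1, y, h => by
    rw [show eMask s (k + 1) = eMask s k ||| (1 <<< eVec (s + k)) from rfl, Nat.testBit_or, Bool.or_eq_true,
      Nat.shiftLeft_eq, one_mul, Nat.testBit_two_pow, decide_eq_true_eq] at h
    rcases h with h | h
    · obtain ⟨i, hi, e⟩ := eMask_bit s k y h
      exact ⟨i, by omega, e⟩
    · exact ⟨k, by omega, h⟩

theorem repM_three : repM 3 = mId := rfl

theorem tEntries_three : tEntries 3 = tList.map fun y => (y, 2) := rfl

theorem tEntries_lt {c : ℕ} (hc : c < 3) : tEntries c = (repTable.getD c []).map fun e => (e.1, tWeight e.2) := by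
  interval_cases c <;> rfl

end CfsgLib.JankoFourOrder.Central

namespace CfsgLib.JankoFour

open Cfsg CfsgLib.ThreeTrans CfsgLib.JankoFourHexad CfsgLib.JankoFourOrder CfsgLib.JankoFourOrder.Central
open CfsgLib.Sporadic (Rep forallLt forallLt_elim exists_M24_elt)

variable {G : Type*} [Group G] [Finite G]

namespace HexBase

variable {S : Setting G} {B : HexBase S}

/-- What a flag says about the elements over a vector. -/
def FlagProp (B : HexBase S) (f m y : ℕ) : Prop :=
  ∀ h, B.Img h y m → (f = 0 → h * h = S.z) ∧ (f ≠ 0 → h * h = 1 ∧ h ≠ 1) ∧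
    (f = 1 → IsConj S.z h) ∧ (f = 2 → ¬ IsConj S.z h) ∧
    (f = 3 → (IsConj S.z h ↔ ¬ IsConj S.z (S.z * h)))

theorem z_mul_z_mul (g : G) : S.z * (S.z * g) = g := by rw [← mul_assoc, S.hE.mul_self_z, one_mul]

variable [IsSimpleGroup G] (hG : ¬ IsMulCommutative G) (hJ : IsOfJankoFourType G)
include hG hJ

theorem t_iff_not_z {h : G} (h2 : h * h = 1) (h1 : h ≠ 1) : IsConj B.duadRep h ↔ ¬ IsConj S.z h := by
  haveI : Nonempty (Frame S) := ⟨B.X.F⟩
  obtain ⟨ht1, htz⟩ := B.duadRep_facts hG hJ
  refine ⟨fun ht hz => htz (hz.trans ht.symm), fun hz => ?_⟩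
  exact (B.two_classes hG hJ B.duadRep_mem ht1 htz h2 h1).resolve_left hz

theorem invol_of_conj_t {h : G} (ht : IsConj B.duadRep h) : h * h = 1 ∧ h ≠ 1 := by
  obtain ⟨ht1, -⟩ := B.duadRep_facts hG hJ
  have ht2 : B.duadRep ^ 2 = 1 := B.V_elementary.2 _ B.duadRep_mem
  obtain ⟨g, rfl⟩ := isConj_iff.1 ht
  refine ⟨by rw [← pow_two, conj_pow, ht2]; simp, fun e => ht1 ?_⟩
  exact conj_eq_one_iff.1 e

theorem table_prop (M : B.NVModel) {c : ℕ} (hc : c < 3) {e : ℕ × ℕ} (he : e ∈ repTable.getD c []) :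
    e.1 < 4096 ∧ e.2 < 4 ∧ FlagProp B e.2 (repM c) e.1 := by
  have h := forallLt_elim table_ok hc
  rw [Bool.and_eq_true, List.all_eq_true] at h
  have h' := h.1 e he
  simp only [Bool.and_eq_true, Nat.blt_eq, Nat.beq_eq] at h'
  obtain ⟨⟨hy, -⟩, hflag⟩ := h'
  have hr := forallLt_elim rep_el hc
  simp only [Bool.and_eq_true] at hr
  have hj := hr.1.1
  set v := (repEl.getD c (0, 0)).1
  set p := (repEl.getD c (0, 0)).2
  have hj' := hj
  simp only [jCheck, normPerm, Bool.and_eq_true, Nat.blt_eq] at hj'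
  obtain ⟨σ, hσ⟩ := exists_M24_elt hj'.1.1.1.2.1.1
  obtain ⟨hn, ha⟩ := M.jCheck_spec hj hσ
  obtain ⟨hf0, hne, hf1, hf2, hf3, hf4⟩ := M.flag_spec hG hJ hj'.1.1.1.1.1 hσ hy hflag hn.1
  refine ⟨hy, hf4, fun x hx => ?_⟩
  set g := B.q e.1 * (B.vel v * M.k σ) with hg
  have hgi : B.Img g e.1 (repM c) := ⟨hy, _, hn, ha, Setting.Zm.refl _⟩
  have hsq : x * x = g * g := B.sq_eq_of_img hx hgi
  refine ⟨fun f0 => hsq.trans (hf0 f0), fun fne => ⟨hsq.trans (hne fne).1, fun e' => (hne fne).2 ?_⟩, ?_, ?_, ?_⟩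
  · exact (B.zm_of_img hgi hx).trans (Or.inl e')
  all_goals
    intro fe
    rcases B.zm_of_img hx hgi with r | r <;> rw [r]
  · exact (hf1 fe).1
  · exact (hf1 fe).2
  · exact (hf2 fe).1
  · exact (hf2 fe).2
  · exact hf3 fe
  · rw [z_mul_z_mul]
    exact iff_not_comm.1 (hf3 fe)

/-- An element over a representative with trivial square modulo `z` is in the table. -/
theorem table_mem {c : ℕ} (hc : c < 3) {h : G} {y : ℕ} (hi : B.Img h y (repM c)) (h2 : S.Zm (h * h) 1) :
    ∃ f, (y, f) ∈ repTable.getD c [] := by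
  have hfix : mMul (repM c) y = y := by
    have := ((hi.mul B hi).unique B (B.img_one.congr B h2)).1
    exact (Nat.xor_eq_zero_iff.1 this).symm
  have h' := forallLt_elim (forallLt_elim table_fix hc) hi.1
  rw [hfix, show Nat.beq y y = true from Nat.beq_eq ▸ rfl, Bool.not_true, Bool.false_or, tableMask] at h'
  rcases fold_mask Prod.fst _ _ _ h' with h0 | ⟨e, he, rfl⟩
  · simp at h0
  · exact ⟨e.2, he⟩

/-- The two kinds of singular vectors. -/
theorem kind_of_tree (M : B.NVModel) : ∀ {i : ℕ}, i < 2079 → eVec i < 4096 ∧ eVec i ≠ 0 ∧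
    ∀ h, B.Img h (eVec i) mId → h * h = 1 ∧ h ≠ 1 ∧ (IsConj S.z h ↔ i < 693) := by
  intro i
  induction i using Nat.strong_induction_on with
  | _ i ih =>
    intro hi
    have hy : eVec i < 4096 := Nat.lt_succ_of_le Nat.and_le_right
    obtain ⟨-, -, hzl, htl, hzall, htall, -⟩ := lists_ok
    have hk := forallLt_elim e_kinds hi
    have hy0 : eVec i ≠ 0 ∧ pairB (eVec i % 64) (eVec i / 64) = 0 := by
      have key : ∀ {l : List ℕ} {m : ℕ}, l.foldl (fun k y => Nat.lor k (Nat.shiftLeft 1 y)) 0 = m →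
          l.all (fun y => Nat.blt y 4096 && !Nat.beq y 0 &&
            Nat.beq (pairB (Nat.land y 63) (Nat.shiftRight y 6)) 0) = true →
          Nat.testBit m (eVec i) = true → eVec i ≠ 0 ∧ pairB (eVec i % 64) (eVec i / 64) = 0 := by
        intro l m hl hall hb
        rw [← hl] at hb
        rcases fold_mask id l 0 _ hb with h0 | ⟨e, he, hey⟩
        · simp at h0
        · rw [List.all_eq_true] at hall
          have := hall e he
          simp only [Bool.and_eq_true, Bool.not_eq_true', Nat.beq_eq] at this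
          obtain rfl : e = eVec i := hey
          refine ⟨fun e0 => ?_, ?_⟩
          · rw [e0] at this; exact Bool.noConfusion this.1.2
          · rw [show eVec i % 64 = Nat.land (eVec i) 63 from (Nat.and_two_pow_sub_one_eq_mod _ 6).symm,
              show eVec i / 64 = Nat.shiftRight (eVec i) 6 from (Nat.shiftRight_eq_div_pow _ 6).symm]
            exact this.2
      split_ifs at hk
      exacts [key hzl hzall hk, key htl htall hk]
    refine ⟨hy, hy0.1, fun h hh => ?_⟩
    have hzm : S.Zm h (B.q (eVec i)) := B.img_mId_iff hh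
    have hsq : h * h = 1 := by rw [hzm.sq (B.q_comm _), B.q_sq _ hy, if_pos hy0.2]
    have hne : ∀ {g : G}, S.Zm g (B.q (eVec i)) → g ≠ 1 := fun hg e =>
      B.q_not_zm_one hy hy0.1 (e ▸ hg).symm
    refine ⟨hsq, hne hzm, ?_⟩
    have he := forallLt_elim e_tree hi
    rw [eOK] at he
    split_ifs at he with hroot
    · -- a root
      obtain ⟨τ, hτ, hk'⟩ := M.exists_wPerm (show eVec i / 64 < 64 by omega)
      have hsh : Nat.shiftLeft (eVec i % 64) 1 < 2048 := by
        show (eVec i % 64) <<< 1 < 2048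
        rw [Nat.shiftLeft_eq]; omega
      have hsh1 : Nat.xor 1 (Nat.shiftLeft (eVec i % 64) 1) < 2048 :=
        Nat.xor_lt_two_pow (n := 11) (by norm_num) hsh
      have hq : B.q (eVec i) = B.vel (Nat.shiftLeft (eVec i % 64) 1) * M.k τ := by
        rw [q, ← hk', ← B.vel_U (Nat.mod_lt _ (by norm_num))]
      have hzq : S.z * B.q (eVec i) = B.vel (Nat.xor 1 (Nat.shiftLeft (eVec i % 64) 1)) * M.k τ := by
        rw [hq, ← B.vel_one, ← mul_assoc, B.vel_xor]
      have hz1 : S.Zm (S.z * B.q (eVec i)) (B.q (eVec i)) := Or.inr rfl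
      have hq2 : B.q (eVec i) * B.q (eVec i) = 1 := by rw [B.q_sq _ hy, if_pos hy0.2]
      have T1 := M.isZ_iff hG hJ hsh hτ (by rw [← hq]; exact hq2) (by rw [← hq]; exact hne (Setting.Zm.refl _))
      have T2 := M.isZ_iff hG hJ hsh1 hτ
        (by rw [← hzq, hz1.sq (B.q_comm _)]; exact hq2) (by rw [← hzq]; exact hne hz1)
      rw [← hq] at T1
      rw [← hzq] at T2
      obtain ⟨r0, r1⟩ := e_roots
      have hr : i = 0 ∨ i = 693 := by simpa [Bool.or_eq_true, Nat.beq_eq] using hroot
      have main : ∀ {b : Bool}, eRootOK (eVec i) b = true → (IsConj S.z h ↔ b = true) := by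
        intro b hb
        simp only [eRootOK, Bool.and_eq_true, beq_iff_eq] at hb
        rw [show Nat.land (eVec i) 63 = eVec i % 64 from Nat.and_two_pow_sub_one_eq_mod _ 6,
          show Nat.shiftRight (eVec i) 6 = eVec i / 64 from Nat.shiftRight_eq_div_pow _ 6,
          show Nat.xor (Nat.shiftLeft (eVec i % 64) 1) 1 = Nat.xor 1 (Nat.shiftLeft (eVec i % 64) 1) from
            Nat.xor_comm _ _] at hb
        rcases hzm with r | r <;> rw [r]
        · rw [T1, hb.1]
        · rw [T2, hb.2]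
      rcases hr with rfl | rfl
      · simpa using main r0
      · simpa using main r1
    · -- a step
      simp only [Bool.and_eq_true, Nat.blt_eq, Nat.beq_eq, beq_iff_eq] at he
      set p := Nat.land (Nat.shiftRight (eAt i) 12) 4095
      obtain ⟨⟨hp, hside⟩, hm⟩ := he
      have hg2 : Nat.shiftRight (eAt i) 24 < 2 := by
        show eAt i >>> 24 < 2
        rw [Nat.shiftRight_eq_div_pow]
        have : eAt i ≤ 33554431 := Nat.and_le_right
        omega
      obtain ⟨W, hW, hWa⟩ := B.exists_word_acts (w := [Nat.shiftRight (eAt i) 24])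
        (fun x hx => by rw [List.mem_singleton] at hx; omega)
      rw [wordMat_cons, wordMat_nil, mMul_mId] at hWa
      swap
      · have := forallLt_elim gen_ok hg2
        simp only [Bool.and_eq_true, Nat.blt_eq] at this
        exact this.1.1.1.1.2
      obtain ⟨hpy, -, hpar⟩ := ih p hp (by omega)
      have hWz : Commute W S.z := Frame.commute_z hW
      set h' := W⁻¹ * h * W with hh'
      have hh'i : B.Img h' (eVec p) mId := by
        have e1 : S.Zm (W * B.q (eVec p) * W⁻¹) (B.q (eVec i)) := by rw [← hm]; exact hWa.2 _ hpy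
        have e2 := (hzm.trans e1.symm).conj hWz.inv_left
        rw [inv_inv, show W⁻¹ * (W * B.q (eVec p) * W⁻¹) * W = B.q (eVec p) by group] at e2
        exact (B.img_q hpy).congr B e2
      obtain ⟨-, -, hiff⟩ := hpar h' hh'i
      have hconj : IsConj h h' := isConj_iff.2 ⟨W⁻¹, by rw [hh', inv_inv]⟩
      have : IsConj S.z h ↔ IsConj S.z h' := ⟨fun a => a.trans hconj, fun a => a.trans hconj.symm⟩
      rw [this, hiff]
      rcases Nat.lt_or_ge i 693 with a | a <;> rcases Nat.lt_or_ge p 693 with b | b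
      · simp [a, b]
      · exfalso
        rw [show Nat.blt i 693 = true by rw [Nat.blt_eq]; exact a, eq_comm, Nat.blt_eq] at hside
        omega
      · exfalso
        rw [show Nat.blt p 693 = true by rw [Nat.blt_eq]; exact b, Nat.blt_eq] at hside
        omega
      · simp only [show ¬ i < 693 by omega, show ¬ p < 693 by omega]

theorem z_vector (M : B.NVModel) {y : ℕ} (hy : Nat.testBit zMask y = true) :
    y < 4096 ∧ y ≠ 0 ∧ ∀ h, B.Img h y mId → h * h = 1 ∧ h ≠ 1 ∧ IsConj S.z h := by
  rw [← e_masks.1] at hy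
  obtain ⟨i, hi, rfl⟩ := eMask_bit 0 693 y hy
  obtain ⟨h1, h2, h3⟩ := kind_of_tree hG hJ M (i := 0 + i) (by omega)
  exact ⟨h1, h2, fun h hh => ⟨(h3 h hh).1, (h3 h hh).2.1, (h3 h hh).2.2.2 (by omega)⟩⟩

theorem t_vector (M : B.NVModel) {y : ℕ} (hy : Nat.testBit tMask y = true) :
    y < 4096 ∧ y ≠ 0 ∧ ∀ h, B.Img h y mId → h * h = 1 ∧ h ≠ 1 ∧ ¬ IsConj S.z h := by
  rw [← e_masks.2] at hy
  obtain ⟨i, hi, rfl⟩ := eMask_bit 693 1386 y hy
  obtain ⟨h1, h2, h3⟩ := kind_of_tree hG hJ M (i := 693 + i) (by omega)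
  exact ⟨h1, h2, fun h hh => ⟨(h3 h hh).1, (h3 h hh).2.1, fun e => absurd ((h3 h hh).2.2.1 e) (by omega)⟩⟩

/-- The cases for an element over the identity with square one. -/
theorem id_cases {h : G} {y : ℕ} (hi : B.Img h y mId) (h2 : h * h = 1) :
    y = 0 ∨ Nat.testBit zMask y = true ∨ Nat.testBit tMask y = true := by
  have hq := (B.img_mId_iff hi).sq (B.q_comm y)
  rw [h2, B.q_sq _ hi.1] at hq
  have h' := forallLt_elim e_cover hi.1
  simp only [Bool.or_eq_true, Bool.not_eq_true', Nat.beq_eq] at h'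
  rw [show Nat.land y 63 = y % 64 from Nat.and_two_pow_sub_one_eq_mod y 6,
    show Nat.shiftRight y 6 = y / 64 from Nat.shiftRight_eq_div_pow y 6] at h'
  rcases h' with ((h' | h') | h') | h'
  · exact Or.inl h'
  · rw [if_neg fun e => by rw [e] at h'; exact Bool.noConfusion h'] at hq
    exact absurd hq.symm S.hE.z_ne_one
  · exact Or.inr (Or.inl h')
  · exact Or.inr (Or.inr h')

omit hG hJ in
/-- The number of elements with a property among the two over a vector. -/
theorem card_pair {P : G → Prop} [DecidablePred P] (g : G) (hP : ∀ h, P h → h = g ∨ h = S.z * g) :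
    Nat.card {h // P h} = (if P g then 1 else 0) + (if P (S.z * g) then 1 else 0) := by
  classical
  haveI := Fintype.ofFinite G
  have hne : g ≠ S.z * g := fun e => S.hE.z_ne_one (mul_right_cancel ((one_mul g).trans e)).symm
  rw [Nat.card_eq_fintype_card, Fintype.card_subtype,
    show (Finset.univ.filter P : Finset G) = ({g, S.z * g} : Finset G).filter P by
      ext x; simpa using fun h => hP x h]
  rw [Finset.filter_insert, Finset.filter_singleton]
  split_ifs <;> simp [hne]

/-- Elements of the second class over a vector of the table. -/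
theorem t_card (M : B.NVModel) {c : ℕ} (hc : c ≤ 3) {e : ℕ × ℕ} (he : e ∈ tEntries c) :
    e.1 < 4096 ∧ Nat.card {h // IsConj B.duadRep h ∧ B.Img h e.1 (repM c)} = e.2 := by
  classical
  rcases Nat.lt_or_ge c 3 with h3 | h3
  · rw [tEntries_lt h3, List.mem_map] at he
    obtain ⟨⟨y, f⟩, hmem, rfl⟩ := he
    obtain ⟨hy, hf, hF⟩ := table_prop hG hJ M h3 hmem
    refine ⟨hy, ?_⟩
    dsimp only at hy hf hF ⊢
    have hr := forallLt_elim rep_el h3
    simp only [Bool.and_eq_true] at hr
    have hj' := hr.1.1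
    simp only [jCheck, normPerm, Bool.and_eq_true] at hj'
    obtain ⟨σ, hσ⟩ := exists_M24_elt hj'.1.1.1.2.1.1
    obtain ⟨hn, ha⟩ := M.jCheck_spec hr.1.1 hσ
    set g := B.q y * (B.vel (repEl.getD c (0, 0)).1 * M.k σ)
    have hgi : B.Img g y (repM c) := ⟨hy, _, hn, ha, Setting.Zm.refl _⟩
    have hzi : B.Img (S.z * g) y (repM c) := hgi.congr B (Or.inr rfl)
    rw [card_pair g fun h hh => B.zm_of_img hh.2 hgi]
    obtain ⟨a0, a1, a2, a3, a4⟩ := hF g hgi
    obtain ⟨b0, b1, b2, b3, -⟩ := hF _ hzi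
    simp only [hgi, hzi, and_true]
    interval_cases f
    · have nt : ∀ {x : G}, x * x = S.z → ¬ IsConj B.duadRep x := fun {x} hx ht =>
        S.hE.z_ne_one (hx.symm.trans (invol_of_conj_t hG hJ ht).1)
      rw [if_neg (nt (a0 rfl)), if_neg (nt (b0 rfl))]; rfl
    all_goals
      rw [t_iff_not_z hG hJ (a1 (by norm_num)).1 (a1 (by norm_num)).2,
        t_iff_not_z hG hJ (b1 (by norm_num)).1 (b1 (by norm_num)).2]
    · rw [if_neg (not_not.2 (a2 rfl)), if_neg (not_not.2 (b2 rfl))]; rfl
    · rw [if_pos (a3 rfl), if_pos (b3 rfl)]; rfl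
    · by_cases hz : IsConj S.z g
      · rw [if_neg (not_not.2 hz), if_pos ((a4 rfl).1 hz)]; rfl
      · rw [if_pos hz, if_neg (fun hn => hz ((a4 rfl).2 hn))]; rfl
  · obtain rfl : c = 3 := le_antisymm hc h3
    rw [tEntries_three, List.mem_map] at he
    obtain ⟨y, hmem, rfl⟩ := he
    have hb : Nat.testBit tMask y = true := by
      rw [← lists_ok.2.2.2.1]; exact mask_fold id _ _ _ (Or.inr ⟨y, hmem, rfl⟩)
    obtain ⟨hy, -, hK⟩ := t_vector hG hJ M hb
    refine ⟨hy, ?_⟩
    dsimp only
    rw [repM_three]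
    have hgi : B.Img (B.q y) y mId := B.img_q hy
    have hzi : B.Img (S.z * B.q y) y mId := hgi.congr B (Or.inr rfl)
    rw [card_pair (B.q y) fun h hh => B.zm_of_img hh.2 hgi]
    have ht : ∀ h, B.Img h y mId → IsConj B.duadRep h := fun h hh =>
      (t_iff_not_z hG hJ (hK h hh).1 (hK h hh).2.1).2 (hK h hh).2.2
    rw [if_pos ⟨ht _ hgi, hgi⟩, if_pos ⟨ht _ hzi, hzi⟩]

/-- Every element of the second class over a representative is counted. -/
theorem t_mem (M : B.NVModel) {c : ℕ} (hc : c ≤ 3) {h : G} {y : ℕ} (ht : IsConj B.duadRep h)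
    (hi : B.Img h y (repM c)) : ∃ e ∈ tEntries c, e.1 = y := by
  obtain ⟨h2, h1⟩ := invol_of_conj_t hG hJ ht
  rcases Nat.lt_or_ge c 3 with h3 | h3
  · obtain ⟨f, hf⟩ := table_mem hG hJ h3 hi (by rw [h2]; exact Setting.Zm.refl _)
    exact ⟨(y, tWeight f), by rw [tEntries_lt h3]; exact List.mem_map.2 ⟨(y, f), hf, rfl⟩, rfl⟩
  · obtain rfl : c = 3 := le_antisymm hc h3
    rw [repM_three] at hi
    rcases id_cases hG hJ hi h2 with rfl | hz | htm
    · exfalso
      obtain ⟨-, htz⟩ := B.duadRep_facts hG hJ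
      have := B.img_mId_iff hi
      rw [B.q_zero] at this
      rcases this with e | e
      · exact h1 e
      · rw [e, mul_one] at ht; exact htz ht.symm
    · exact absurd ht fun a =>
        ((t_iff_not_z hG hJ h2 h1).1 a) ((z_vector hG hJ M hz).2.2 h hi).2.2
    · rw [← lists_ok.2.2.2.1] at htm
      rcases fold_mask id tList 0 y htm with h0 | ⟨e, he, rfl⟩
      · simp at h0
      · exact ⟨(e, 2), by rw [tEntries_three]; exact List.mem_map.2 ⟨e, he, rfl⟩, rfl⟩

theorem tEntries_nodup (c : ℕ) (hc : c ≤ 3) : ((tEntries c).map Prod.fst).Nodup := by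
  rcases Nat.lt_or_ge c 3 with h3 | h3
  · have h := forallLt_elim table_ok h3
    rw [Bool.and_eq_true] at h
    rw [tEntries_lt h3, List.map_map]
    exact nodup_of_increasing h.2
  · obtain rfl : c = 3 := le_antisymm hc h3
    rw [tEntries_three, List.map_map]
    simpa [Function.comp_def] using nodup_of_increasing lists_ok.2.1

end HexBase

end CfsgLib.JankoFour
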