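import Cfsg.Agent.Lib.JankoFourOrder.Central.Group
import Cfsg.Agent.Lib.Signalizer.OrderFormula

/-!
# When `z` is a power of the product of two involutions of `C(z)` (owner: helper17)
-/

set_option autoImplicit false
set_option linter.unusedSectionVars false

namespace CfsgLib.JankoFour

open Cfsg CfsgLib.ThreeTrans
open CfsgLib.JankoFourHexad (pairB)
open CfsgLib.JankoFourOrder

variable {G : Type*} [Group G] [Finite G]

namespace HexBase

variable {S : Setting G} (B : HexBase S)

/-- `k` is the order of the matrix `m`. -/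
def ExactOrd (m k : ℕ) : Prop := 0 < k ∧ mPow m k = mId ∧ ∀ j, 0 < j → j < k → mPow m j ≠ mId

theorem z_mem_pair_iff {u v : G} (hu : orderOf u = 2) (hv : orderOf v = 2) (hnc : ¬ IsConj u v)
    {w m k : ℕ} (h : B.Img (u * v) w m) (hk : ExactOrd m k) :
    S.z ∈ Subgroup.zpowers (u * v) ↔
      if vSum m w k = 0 then (Odd k ∨ (u * v) ^ (k / 2) * (u * v) ^ (k / 2) ≠ 1)
      else pairB (vSum m w k % 64) (vSum m w k / 64) ≠ 0 := by
  have heven : Even (orderOf (u * v)) := by
    rw [← Nat.not_odd_iff_even]
    intro ho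
    obtain ⟨d, -, hd⟩ := CfsgLib.Signalizer.exists_conj_of_odd hu hv ho
    exact hnc (isConj_iff.2 ⟨d, hd⟩)
  set g := u * v with hg
  have hS : vSum m w k < 4096 := vSum_lt m h.1 k
  have hgk := h.pow B k
  rw [hk.2.1] at hgk
  have hq := B.img_mId_iff hgk
  have huniq : ∀ {c : G}, c ∈ Subgroup.zpowers g → c * c = 1 → c ≠ 1 →
      S.z ∈ Subgroup.zpowers g → c = S.z := fun {c} hc hc2 hc1 hz =>
    CfsgLib.Signalizer.unique_involution_in_zpowers hc hz
      (CfsgLib.Signalizer.orderOf_eq_two_of hc1 hc2) S.orderOf_z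
  split_ifs with h0
  · rw [h0, q_zero] at hq
    rcases hq with e | e
    · constructor
      · intro hz
        rcases Nat.even_or_odd k with hev | hodd
        · exfalso
          obtain ⟨l, hl⟩ := hev
          have hl2 : k / 2 = l := by omega
          have hl0 : 0 < l := by have := hk.1; omega
          have hne : ∀ c : G, S.Zm c 1 → g ^ l ≠ c := by
            intro c hc e'
            exact hk.2.2 l hl0 (by omega) ((h.pow B l).unique B (B.img_one.congr B (e' ▸ hc))).2
          have h2 : g ^ l * g ^ l = 1 := by rw [← pow_add, ← hl, e]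
          refine hne _ (Or.inr (mul_one _).symm) (huniq (pow_mem (Subgroup.mem_zpowers g) l) h2 ?_ hz)
          exact hne 1 (Setting.Zm.refl 1)
        · exact Or.inl hodd
      · rintro (hodd | hsq)
        · have hd := orderOf_dvd_of_pow_eq_one e
          exact absurd (Odd.of_dvd_nat hodd hd) (Nat.not_odd_iff_even.2 heven)
        · rcases Nat.even_or_odd k with ⟨l, hl⟩ | hodd
          · exact absurd (by rw [← pow_add, show k / 2 + k / 2 = k by omega, e]) hsq
          · exact absurd (Odd.of_dvd_nat hodd (orderOf_dvd_of_pow_eq_one e))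
              (Nat.not_odd_iff_even.2 heven)
    · rw [mul_one] at e
      refine iff_of_true (e ▸ pow_mem (Subgroup.mem_zpowers g) k) ?_
      rcases Nat.even_or_odd k with ⟨l, hl⟩ | hodd
      · refine Or.inr ?_
        rw [← pow_add, show k / 2 + k / 2 = k by omega, e]
        exact S.hE.z_ne_one
      · exact Or.inl hodd
  · have hsq := hq.sq (B.q_comm _)
    rw [B.q_sq _ hS] at hsq
    constructor
    · intro hz hp
      rw [if_pos hp] at hsq
      have hne : ¬ S.Zm (g ^ k) 1 := fun e => B.q_not_zm_one hS h0 (hq.symm.trans e)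
      have e := huniq (pow_mem (Subgroup.mem_zpowers g) k) hsq
        (fun e => hne (e ▸ Setting.Zm.refl _)) hz
      exact hne (Or.inr (by rw [e, mul_one]))
    · intro hp
      rw [if_neg hp] at hsq
      exact hsq ▸ mul_mem (pow_mem (Subgroup.mem_zpowers g) k) (pow_mem (Subgroup.mem_zpowers g) k)

end HexBase

end CfsgLib.JankoFour
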