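import Cfsg.Agent.Lib.JankoFourOrder.Codes

/-!
# A quick test for the commutator space of a permutation on the codes (owner: helper17)

A set of codes is a number with 2048 bits; translating it by a code takes three operations for each bit.
-/

set_option autoImplicit false
set_option maxRecDepth 100000

namespace CfsgLib.JankoFourOrder

open CfsgLib.Sporadic CfsgLib.JankoFourHexad

/-- The codes without bit 0. -/
def lowMask0 : ℕ := 10772335357103669100238292229556650653481367556571828010710115142508218379622630297732400470507637821229572653640632673164706519716830307031696050795482761040210292455766998697250065916796550702265352546128022522758930739547539918720612698112825390156860548617345435014295858630513688602869184133041310128507304777796556114140228324928854856498285392011775440686025935219777008730902820104716752864288059038908647867906153952452532783717433881968134565871077762410409041894903606736575052367242310441156559514193552232645015332422784332879405175055463145778514534045144409868215106159534984049397851951203686532076885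

/-- The codes without bit 1. -/
def lowMask1 : ℕ := 6463401214262201460142975337733990392088820533943096806426069085504931027773578178639440282304582692737743592184379603898823911830098184219017630477289656624126175473460199218350039550077930421359211527676813513655358443728523951232367618867695234094116329170407261008577515178308213161721510479824786077104382866677933668484136994957312913898971235207065264411615561131866205238541692062830051718572835423345188720743692371471519670230460329180880739522646657446245425136942164041945031420345386264693935708516131339587009199453670599727643105033277887467108720427086645920929063695720990429638711170722211919246131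

/-- The codes without bit 2. -/
def lowMask2 : ℕ := 1901000357135941605924404511098232468261417804100910825419432083972038537580464170188070671266053733158159880054229295264359974067675936535005185434496957830625345727488293887750011632375861888635062214022592209898634836390742338597755182019910362968857743873649194414287504464208297988741620729360231199148347901964098137789452057340386151146756245649136842474004576803490060364276968253773544623109657477454467270806968344550446961832488332112023746918425487484189830922630048247630891594219231254321745796622391570466767411604020764625777383833317025725620211890319601741449724616388526596952562109035944682131215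

/-- The codes without bit 3. -/
def lowMask3 : ℕ := 125747105335840495333520920967587361713790282761538848374048036682975311824388680518277048293863476512407462882964583733440153926655606696868047285550382424593894464464206210473736178017080358392202558904218161744267674002500465977283416709488234126344675664793915583824465275842572240500418491825384943134326514915913106390741964882437994433832125198581036272599524535639420335380188561533658593746553218353019235812134092830185207592032302124141648628845265709070922668033894242061187381718781833943461784212376096100914575864857404663961928113487896643328963432433592333092005130266945339098029400208603344732415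

/-- The codes without bit 4. -/
def lowMask4 : ℕ := 493110854499153261527303304830400414429163719268741078049504027152977022733232996524058187154171131783400490729235363527383303464462683996751272600003788441958449080173047226631524142856549004482903667216748822318336088295811827763886630366639854898310597766941366022901377479767781036797649456019102650190303406219229875374531714524414675213922763874381285717351691497311915806227145891849646132610039780837175085886117183535370834050266286920432789075075656304548989512561008593767263638886841499053506851741469043409601385435225185752143301114887612147878963061101869624862983024529730566675214853496666914815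

/-- The codes without bit 5. -/
def lowMask5 : ℕ := 7524389322797446040883062092537733229786709286255942365591042456667314442386984930096710212860769417795340657030827683038844698134727362301284631268392235937583875243951827485067390432889168540459798904583851961347493402961438138317409892571406969311454956545629852567160903318873644454808418626039175260691609949036049282500668357192980174976837821551246685093927923721588007749784843196246171229662840693970933302712516988312146012401244517765743466989949769396632294237631961231141629598705401114366081875798891955552658541527505604808849729680814712227957530391280469301474478369841928076546552539119615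

/-- The codes without bit 6. -/
def lowMask6 : ℕ := 1751908409537131537125538500170898456289982643253648994597171622084866540056922972656596711067189883143022427928261387198048309577447708096161081508699543188141910799902361070622401213741372869165576561922289064005031441460299875909588734720986560192536021217458484325625391881476254406473079046653046818198811063732807766626815778669059263539288279240724043002972198751108816706724514596508072044707863500473414019828271440565021291938453587422416281612723545945938909968678247193364858445334012215555435275427943811594957345986593699556195903066794743184472440265626440142038293478191736570249215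

/-- The codes without bit 7. -/
def lowMask7 : ℕ := 94971145180789141405469863695884969990413375523057264366393133656667101213790966126577778796192435976493286721619611273819053280153830754471864219391289063009512806159964370817305614238014244837688992683186106238684767551483551350234458097273324874897360483666819816039560925245068139788358907078031552764684530246952389718316880392918374272991258975094057996680343827463235688502168934277549034830891396697676020193061348779341148892066948388025097854535507810266613457395028123006836137017554784880056507653590091639305530513408919664906739868441072650790136656884348974268415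

/-- The codes without bit 8. -/
def lowMask8 : ℕ := 279095111627852376407822673918065072905887935345660252615989519488029661278602584477274180335287279405243496479269655964121202716886217624945655141584838007703178109579584255207605922065345056860944776274180728348556737279454388833698212982515973506422648097610271573739270676850754346538118912161587565627322601608861055814126836611515444383335727234678394072087732734025567668896419351136825388822676270715092663370710364205902957257037840983601227613820869153236869843656264309782139126643440567491781248474770930966086857614467652386815

/-- The codes without bit 9. -/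
def lowMask9 : ℕ := 2410312426921032588580116606028314112912093247945688951359675039065257391591803200669085024107346049663448766280888004787862416978794958324969612987890774471685899853150034451840262999015208137879147648906730546627516188125228793608498254413622185557461794521228420806236115696491848613995171671120355230896257999149258109674668529734341363050113939500588541302086847006769686052748707136868564708653190246324172185170594217116133658727496874721447108785121263615

/-- The codes without bit 10. -/
def lowMask10 : ℕ := 179769313486231590772930519078902473361797697894230657273430081157732675805500963132708477322407536021120113879871393357658789768814416622492847430639474124377767893424865485276302219601246094119453082952085005768838150682342462881473913110540827237163350510684586298239947245938479716304835356329624224137215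

/-- The codes without a bit. -/
def lowMask (b : ℕ) : ℕ :=
  [lowMask0, lowMask1, lowMask2, lowMask3, lowMask4, lowMask5, lowMask6, lowMask7, lowMask8, lowMask9, lowMask10].getD b 0

/-- Translation by a power of two. -/
noncomputable def xShift (b m : ℕ) : ℕ :=
  Nat.lor (Nat.shiftLeft (Nat.land m (lowMask b)) (Nat.pow 2 b))
    (Nat.land (Nat.shiftRight m (Nat.pow 2 b)) (lowMask b))

/-- Translation by a code. -/
noncomputable def xTrans (v m : ℕ) : ℕ :=
  Nat.rec m (fun b acc => if Nat.testBit v b then xShift b acc else acc) 11

/-- The set spanned by some codes. -/
noncomputable def spanMask (f : ℕ → ℕ) (k : ℕ) : ℕ :=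
  Nat.rec 1 (fun j acc => Nat.lor acc (xTrans (f j) acc)) k

/-- The quick form of `typeZ`. -/
noncomputable def fastZ (n p : ℕ) : Bool :=
  if Nat.beq (fixCount p) 24 then zCode n
  else Nat.beq (fixCount p) 8 == Nat.testBit (spanMask (fun j => Nat.xor (pCol p j) (2 ^ j)) 11) n

theorem lowMask_spec : forallLt 11 (fun b => Nat.blt (lowMask b) (2 ^ 2048) && forallLt 2048 fun n =>
    Nat.testBit (lowMask b) n == !Nat.testBit n b) = true := by decide +kernel

theorem lowMask_test {b : ℕ} (hb : b < 11) {n : ℕ} :
    (lowMask b).testBit n = (decide (n < 2048) && !n.testBit b) := by
  have h := forallLt_elim lowMask_spec hb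
  rw [Bool.and_eq_true, Nat.blt_eq] at h
  by_cases hn : n < 2048
  · have := forallLt_elim h.2 hn
    simp only [beq_iff_eq] at this
    simp [this, hn]
  · rw [Nat.testBit_lt_two_pow (lt_of_lt_of_le h.1 (Nat.pow_le_pow_right (by norm_num) (by omega)))]
    simp [hn]

theorem xor_pow_check : forallLt 11 (fun b => forallLt 2048 fun n => Nat.beq (Nat.xor n (Nat.pow 2 b))
    (if Nat.testBit n b then Nat.sub n (Nat.pow 2 b) else Nat.add (Nat.pow 2 b) n)) = true := by decide +kernel

theorem xor_pow {b : ℕ} (hb : b < 11) {n : ℕ} (hn : n < 2048) :
    n ^^^ 2 ^ b = if n.testBit b then n - 2 ^ b else 2 ^ b + n :=
  Nat.eq_of_beq_eq_true (forallLt_elim (forallLt_elim xor_pow_check hb) hn)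

theorem xShift_test {b : ℕ} (hb : b < 11) (m : ℕ) {n : ℕ} (hn : n < 2048) :
    (xShift b m).testBit n = m.testBit (n ^^^ 2 ^ b) := by
  show ((((m &&& lowMask b) <<< (2 ^ b))) ||| ((m >>> (2 ^ b)) &&& lowMask b)).testBit n = _
  have hlow : n % 2 ^ (b + 1) < 2 ^ (b + 1) := Nat.mod_lt _ (by positivity)
  rw [Nat.testBit_or, Nat.testBit_shiftLeft, Nat.testBit_and, Nat.testBit_and, Nat.testBit_shiftRight,
    lowMask_test hb, lowMask_test hb]
  cases hbit : n.testBit b
  · have e : n ^^^ 2 ^ b = 2 ^ b + n := by
      rw [xor_pow hb hn, hbit]; rfl
    rw [e]
    by_cases hge : 2 ^ b ≤ n
    · have hne : (n - 2 ^ b).testBit b = true := by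
        by_contra hc
        rw [Bool.not_eq_true] at hc
        have h1 := Nat.testBit_two_pow_add_eq (n - 2 ^ b) b
        rw [Nat.add_sub_cancel' hge, hbit, hc] at h1
        exact Bool.noConfusion h1
      simp [hne, hn]
    · simp [hge, hn]
  · have hge : 2 ^ b ≤ n := Nat.ge_two_pow_of_testBit hbit
    have e : n ^^^ 2 ^ b = n - 2 ^ b := by
      rw [xor_pow hb hn, hbit]; rfl
    have h0 : (n - 2 ^ b).testBit b = false := by
      have h1 := Nat.testBit_two_pow_add_eq (n - 2 ^ b) b
      rw [Nat.add_sub_cancel' hge, hbit] at h1
      simpa using h1.symm
    rw [e]
    simp [hge, h0, show n - 2 ^ b < 2048 by omega, hn]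

theorem xTrans_test (m : ℕ) {v : ℕ} (hv : v < 2048) {n : ℕ} (hn : n < 2048) :
    (xTrans v m).testBit n = m.testBit (n ^^^ v) := by
  have step : ∀ k ≤ 11, ∀ n < 2048,
      (Nat.rec m (fun b acc => if Nat.testBit v b then xShift b acc else acc) k : ℕ).testBit n =
        m.testBit (n ^^^ v % 2 ^ k) := by
    intro k hk
    induction k with
    | zero => intro n _; simp [Nat.mod_one]
    | succ k ih =>
      intro n hn
      show (if Nat.testBit v k then _ else _ : ℕ).testBit n = _
      have hmod : v % 2 ^ (k + 1) = v % 2 ^ k ^^^ if v.testBit k then 2 ^ k else 0 := by
        refine Nat.eq_of_testBit_eq fun i => ?_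
        rw [Nat.testBit_mod_two_pow, Nat.testBit_xor, Nat.testBit_mod_two_pow]
        rcases lt_trichotomy i k with e | e | e
        · simp [e, Nat.lt_succ_of_lt e]
          split_ifs <;> simp [e.ne']
        · subst e
          cases hb : v.testBit i <;> simp
        · simp [e.not_gt, show ¬ i < k + 1 by omega]
          split_ifs <;> simp [e.ne]
      rw [hmod]
      split_ifs with h
      · rw [xShift_test (by omega) _ hn, ih (by omega) _
          (Nat.xor_lt_two_pow (n := 11) hn (Nat.pow_lt_pow_right (by norm_num) (by omega))), Nat.xor_assoc,
          Nat.xor_comm (2 ^ k)]
      · rw [ih (by omega) _ hn, Nat.xor_zero]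
  have := step 11 le_rfl n hn
  rw [show v % 2 ^ 11 = v from Nat.mod_eq_of_lt hv] at this
  exact this

theorem spanMask_test {f : ℕ → ℕ} (hf : ∀ j, f j < 2048) :
    ∀ k, ∀ n < 2048, (spanMask f k).testBit n = true ↔ ∃ w < 2 ^ k, n = xfold f w k
  | 0, n, _ => by
    show (1 : ℕ).testBit n = true ↔ _
    rw [Nat.testBit_one_eq_true_iff_self_eq_zero]
    exact ⟨fun h => ⟨0, by norm_num, h⟩, fun ⟨w, _, h⟩ => h⟩
  | k + 1, n, hn => by
    show (spanMask f k ||| xTrans (f k) (spanMask f k)).testBit n = true ↔ _
    have hlt := Nat.xor_lt_two_pow (n := 11) hn (hf k)
    rw [Nat.testBit_or, xTrans_test _ (hf k) hn, Bool.or_eq_true, spanMask_test hf k n hn,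
      spanMask_test hf k _ hlt]
    have hlow : ∀ {x y : ℕ} (_ : x % 2 ^ k = y % 2 ^ k), xfold f x k = xfold f y k := by
      intro x y h
      have : ∀ i ≤ k, xfold f x i = xfold f y i := by
        intro i hi
        induction i with
        | zero => rfl
        | succ i ih =>
          show xfold f x i ^^^ _ = xfold f y i ^^^ _
          have hb := congrArg (fun t => t.testBit i) h
          simp only [Nat.testBit_mod_two_pow, show i < k by omega, decide_true, Bool.true_and] at hb
          rw [ih (by omega), hb]
      exact this k le_rfl
    constructor
    · rintro (⟨w, hw, e⟩ | ⟨w, hw, e⟩)
      · refine ⟨w, hw.trans (Nat.pow_lt_pow_right (by norm_num) (by omega)), ?_⟩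
        show n = xfold f w k ^^^ if w.testBit k then f k else 0
        rw [Nat.testBit_lt_two_pow hw, e]; simp
      · refine ⟨2 ^ k + w, by rw [pow_succ]; omega, ?_⟩
        show n = xfold f (2 ^ k + w) k ^^^ if (2 ^ k + w).testBit k then f k else 0
        rw [Nat.testBit_two_pow_add_eq, Nat.testBit_lt_two_pow hw, hlow (y := w) (by simp), ← e]
        simp [Nat.xor_assoc]
    · rintro ⟨w, hw, e⟩
      change n = xfold f w k ^^^ (if w.testBit k then f k else 0) at e
      have hm : w % 2 ^ k < 2 ^ k := Nat.mod_lt _ (by positivity)
      rw [← hlow (x := w % 2 ^ k) (y := w) (by simp)] at e
      cases hb : w.testBit k <;> rw [hb] at e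
      · exact Or.inl ⟨_, hm, by simpa using e⟩
      · exact Or.inr ⟨_, hm, by rw [e]; simp [Nat.xor_assoc]⟩

theorem pCol_lt (p j : ℕ) : pCol p j < 2048 := by
  have h : ∀ i, cI i < 2048 := fun i => by
    rw [cI]
    rcases Nat.lt_or_ge i 24 with hi | hi
    · exact forallLt_elim (show forallLt 24 (fun i => Nat.blt (ptList.getD i 0) 2048) = true by decide +kernel)
        hi |> fun h => Nat.blt_eq.mp h
    · rw [List.getD_eq_default _ _ (by simpa [ptList] using hi)]; norm_num
  have step : ∀ k, xfold (fun i => cI (pget p i)) (baseSets.getD j 0) k < 2048 := by
    intro k
    induction k with
    | zero => show (0 : ℕ) < 2048; norm_num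
    | succ k ih =>
      refine Nat.xor_lt_two_pow (n := 11) ih ?_
      split_ifs
      exacts [h _, by norm_num]
  exact step 24

theorem fastZ_eq {n : ℕ} (hn : n < 2048) (p : ℕ) : fastZ n p = typeZ n p := by
  have hf : ∀ j, Nat.xor (pCol p j % 2048) (if j < 11 then 2 ^ j else 0) < 2048 := fun j => by
    refine Nat.xor_lt_two_pow (n := 11) (Nat.mod_lt _ (by norm_num)) ?_
    split_ifs with h
    · exact lt_of_lt_of_eq (Nat.pow_lt_pow_right (by norm_num) h) (by norm_num)
    · norm_num
  have hcongr : ∀ (f g : ℕ → ℕ) k, (∀ j < k, f j = g j) → spanMask f k = spanMask g k := by
    intro f g k h
    induction k with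
    | zero => rfl
    | succ k ih =>
      show spanMask f k ||| xTrans (f k) (spanMask f k) = spanMask g k ||| xTrans (g k) (spanMask g k)
      rw [ih fun j hj => h j (by omega), h k (by omega)]
  have hfun : ∀ j < 11, Nat.xor (pCol p j) (2 ^ j) =
      Nat.xor (pCol p j % 2048) (if j < 11 then 2 ^ j else 0) := fun j hj => by
    rw [Nat.mod_eq_of_lt (pCol_lt p j), if_pos hj]
  have key : Nat.testBit (spanMask (fun j => Nat.xor (pCol p j) (2 ^ j)) 11) n = inImg p n := by
    rw [hcongr _ _ 11 hfun, Bool.eq_iff_iff, spanMask_test hf 11 n hn, inImg, Bool.not_eq_true',
      ← Bool.not_eq_true, forallLt_iff]
    have hx : ∀ w < 2048, xfold (fun j => Nat.xor (pCol p j % 2048) (if j < 11 then 2 ^ j else 0)) w 11 =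
        Nat.xor (pImg p w) w := by
      intro w hw
      have hw' : xfold (fun j => 2 ^ j) w 11 = w := forallLt_elim
        (show forallLt 2048 (fun w => Nat.beq (xfold (fun j => 2 ^ j) w 11) w) = true by decide +kernel) hw
        |> Nat.eq_of_beq_eq_true
      have step : ∀ k ≤ 11, xfold (fun j => Nat.xor (pCol p j % 2048) (if j < 11 then 2 ^ j else 0)) w k =
          xfold (pCol p) w k ^^^ xfold (fun j => 2 ^ j) w k := by
        intro k hk
        induction k with
        | zero => exact (Nat.xor_self 0).symm
        | succ k ih =>
          have e := hfun k (by omega)
          have h1 := ih (by omega)
          show xfold _ w k ^^^ _ = (xfold (pCol p) w k ^^^ _) ^^^ (xfold (fun j => 2 ^ j) w k ^^^ _)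
          rw [h1]
          cases w.testBit k
          · simp
          · simp only [if_true]
            rw [← e]
            show _ ^^^ (pCol p k ^^^ 2 ^ k) = _
            rw [Nat.xor_assoc, Nat.xor_assoc (xfold (pCol p) w k), ← Nat.xor_assoc _ (pCol p k),
              Nat.xor_comm _ (pCol p k), Nat.xor_assoc]
      rw [step 11 le_rfl, hw']; rfl
    constructor
    · rintro ⟨w, hw, e⟩ hall
      have := hall w hw
      rw [hx w hw] at e
      simp [e] at this
    · intro h
      by_contra hc
      refine h fun w hw => ?_
      simp only [Bool.not_eq_true']
      by_contra hb
      rw [Bool.not_eq_false, Nat.beq_eq] at hb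
      exact hc ⟨w, hw, by rw [hx w hw]; exact hb⟩
  rw [fastZ, typeZ, key]

end CfsgLib.JankoFourOrder
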