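import Cfsg.Agent.Lib.JankoFourOrder.Central.DataList
import Cfsg.Agent.Lib.JankoFourOrder.Central.DataMisc
import Cfsg.Agent.Lib.JankoFourOrder.Central.Span

/-!
# Reading the tables, and the checks' ingredients (owner: helper17)
-/

set_option autoImplicit false

namespace CfsgLib.JankoFourOrder.Central

open CfsgLib.Sporadic CfsgLib.JankoFourHexad
open CfsgLib.ThreeTrans.M24Inv (peq)

/-- A matrix of the list; the last is the identity. -/
noncomputable def LT (i : ℕ) : ℕ :=
  Nat.land (Nat.shiftRight (lTree.get (Nat.shiftRight i 4)) (Nat.mul 144 (Nat.land i 15)))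
    22300745198530623141535718272648361505980415

/-- A table with thirteen bits for each entry. -/
noncomputable def arr13 (t : QTree) (i : ℕ) : ℕ :=
  Nat.land (Nat.shiftRight (t.get (Nat.shiftRight i 6)) (Nat.mul 13 (Nat.land i 63))) 8191

/-- The image of the list under conjugation by a generator. -/
noncomputable def piAt (g i : ℕ) : ℕ := if Nat.beq g 0 then arr13 pi0Tree i else arr13 pi1Tree i

/-- The code of the parent and generator. -/
noncomputable def parCode (i : ℕ) : ℕ :=
  Nat.land (Nat.shiftRight (parTree.get (Nat.shiftRight i 6)) (Nat.mul 14 (Nat.land i 63))) 16383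

/-- The class of a matrix of the list. -/
noncomputable def clsOf (i : ℕ) : ℕ :=
  cond (Nat.blt i 1155) 0 (cond (Nat.blt i 2145) 1 (cond (Nat.blt i 6303) 2 3))

/-- The matrix of a generator. -/
noncomputable def genM (g : ℕ) : ℕ := genMat.getD g 0

/-- The inverse of a generator. -/
noncomputable def genI (g : ℕ) : ℕ := genInv.getD g 0

/-- The matrix of a word, the first letter acting last. -/
noncomputable def wordMat (w : List ℕ) : ℕ := w.foldr (fun g m => mMul (genM g) m) mId

/-- The class representative. -/
noncomputable def repM (c : ℕ) : ℕ := repMat.getD c mId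

/-- A permutation fixing `z` and normalizing the group of `p`. -/
noncomputable def normPerm (p : ℕ) : Bool :=
  isAut p && Nat.beq (pImg p 1) 1 &&
    (peq (pmul p pPerm) (pmul pPerm p) || peq (pmul p pPerm) (pmul pPerm (pmul pPerm p)))

/-- The element `(v, p)` of the coordinates lies in `N_H(P)` and has the matrix `m`. -/
noncomputable def jCheck (v p m : ℕ) : Bool :=
  Nat.blt v 2048 && Nat.beq (pImg pPerm v) v && normPerm p && Nat.blt m (2 ^ 144) &&
    forallLt 6 (fun j => Nat.blt (pImg p (Nat.pow 2 (j + 1))) 128 &&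
      Nat.beq (mCol m j) (Nat.shiftRight (pImg p (Nat.pow 2 (j + 1))) 1)) &&
    forallLt 6 fun j =>
      peq (pmul p (wPerm (Nat.pow 2 j))) (pmul (wPerm (Nat.shiftRight (mCol m (6 + j)) 6)) p) &&
        Nat.blt (Nat.xor v (pImg (wPerm (Nat.shiftRight (mCol m (6 + j)) 6)) v)) 128 &&
        Nat.beq (Nat.shiftRight (Nat.xor v (pImg (wPerm (Nat.shiftRight (mCol m (6 + j)) 6)) v)) 1)
          (Nat.land (mCol m (6 + j)) 63)

/-- The code part of the element `q y * (v, p)`. -/
noncomputable def elCode (y v : ℕ) : ℕ :=
  Nat.xor (Nat.shiftLeft (Nat.land y 63) 1) (pImg (wPerm (Nat.shiftRight y 6)) v)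

/-- The permutation part of the element `q y * (v, p)`. -/
noncomputable def elPerm (y p : ℕ) : ℕ := pmul (wPerm (Nat.shiftRight y 6)) p

/-- The flag of a fixed vector is as listed. -/
noncomputable def flagOK (v p y f : ℕ) : Bool :=
  let n := elCode y v
  let q := elPerm y p
  peq (pmul q q) pone && (!peq q pone || Nat.blt 1 n) && Nat.blt n 2048 &&
    (if Nat.beq f 0 then Nat.beq (Nat.xor n (pImg q n)) 1
     else Nat.beq (Nat.xor n (pImg q n)) 0 &&
       (if Nat.beq f 1 then fastZ n q && fastZ (Nat.xor n 1) q
        else if Nat.beq f 2 then !fastZ n q && !fastZ (Nat.xor n 1) q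
        else Nat.beq f 3 && (fastZ n q != fastZ (Nat.xor n 1) q)))

end CfsgLib.JankoFourOrder.Central
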