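import Cfsg.Agent.Lib.JankoFourOrder.Coord.Types
import Cfsg.Agent.Lib.JankoFourOrder.Central.Cond
import Cfsg.Agent.Lib.JankoFourOrder.Central.Tables

/-!
# Elements of `N_H(P)` in the coordinates of `N(V)` (owner: helper17)
-/

set_option autoImplicit false
set_option linter.unusedSectionVars false

namespace CfsgLib.JankoFour

open Cfsg CfsgLib.ThreeTrans CfsgLib.JankoFourHexad CfsgLib.JankoFourOrder CfsgLib.JankoFourOrder.Central
open CfsgLib.Sporadic (Rep pone pmul isAut forallLt forallLt_elim exists_M24_elt)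
open CfsgLib.ThreeTrans.M24Inv (peq peq_iff)
open Setting (Zm)

theorem pImg_zero (p : ℕ) : pImg p 0 = 0 := by
  have : ∀ k, JankoFourHexad.xfold (pCol p) 0 k = 0 := by
    intro k
    induction k with
    | zero => rfl
    | succ k ih => rw [xfold_succ, ih]; simp
  exact this 11

variable {G : Type*} [Group G] [Finite G]

namespace HexBase

variable {S : Setting G} {B : HexBase S}

namespace NVModel

variable (M : B.NVModel)
include M

theorem pImg_lt {σ : ↥M24} {p : ℕ} (hp : Rep σ.1 p) {n : ℕ} (hn : n < 2048) : pImg p n < 2048 :=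
  (M.hact σ p hp n hn).1

/-- The product in coordinates. -/
theorem mul_eq {σ τ : ↥M24} {p : ℕ} (hp : Rep σ.1 p) (n : ℕ) {m : ℕ} (hm : m < 2048) :
    B.vel n * M.k σ * (B.vel m * M.k τ) = B.vel (Nat.xor n (pImg p m)) * M.k (σ * τ) := by
  rw [map_mul, show B.vel n * M.k σ * (B.vel m * M.k τ) =
      B.vel n * (M.k σ * B.vel m * (M.k σ)⁻¹) * (M.k σ * M.k τ) by group,
    (M.hact σ p hp m hm).2, B.vel_xor]

theorem mem_NV {n : ℕ} (hn : n < 2048) (σ : ↥M24) : B.vel n * M.k σ ∈ B.NV :=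
  mul_mem (Subgroup.le_normalizer (B.vel_mem hn)) (M.hk σ)

theorem exists_wPerm {w : ℕ} (hw : w < 64) : ∃ σ : ↥M24, Rep σ.1 (wPerm w) ∧ M.k σ = B.W w := by
  have h := forallLt_elim wPerm_ok hw
  rw [Bool.and_eq_true] at h
  obtain ⟨σ, hσ⟩ := exists_M24_elt h.1
  exact ⟨σ, hσ, M.hW w hw σ hσ⟩

theorem exists_pPerm : ∃ σ : ↥M24, Rep σ.1 pPerm ∧ M.k σ = B.X.F.p := by
  have h := pPerm_ok
  simp only [Bool.and_eq_true] at h
  obtain ⟨σ, hσ⟩ := exists_M24_elt h.1.1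
  exact ⟨σ, hσ, M.hp σ hσ⟩

/-- An element `q y * (v, p)` in coordinates. -/
theorem q_mul_eq {y : ℕ} (hy : y < 4096) {v : ℕ} (hv : v < 2048) {σ : ↥M24} {p : ℕ} (hp : Rep σ.1 p) :
    ∃ τ : ↥M24, Rep τ.1 (elPerm y p) ∧ elCode y v < 2048 ∧
      B.q y * (B.vel v * M.k σ) = B.vel (elCode y v) * M.k τ := by
  have h1 : Nat.land y 63 = y % 64 := Nat.and_two_pow_sub_one_eq_mod y 6
  have h2 : Nat.shiftRight y 6 = y / 64 := Nat.shiftRight_eq_div_pow y 6
  have hu : y % 64 < 64 := Nat.mod_lt _ (by norm_num)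
  have hw : y / 64 < 64 := by omega
  obtain ⟨τ, hτ, hk⟩ := M.exists_wPerm hw
  have hsh : Nat.shiftLeft (y % 64) 1 < 2048 := by
    show (y % 64) <<< 1 < 2048
    rw [Nat.shiftLeft_eq]; omega
  refine ⟨τ * σ, by rw [elPerm, h2]; exact hτ.mul hp,
    by rw [elCode, h1, h2]; exact Nat.xor_lt_two_pow (n := 11) hsh (M.pImg_lt hτ hv), ?_⟩
  rw [q, ← hk, ← B.vel_U hu, elCode, h1, h2, M.mul_eq hτ _ hv]

/-- The square of an element. -/
theorem sq_eq {σ : ↥M24} {p : ℕ} (hp : Rep σ.1 p) {n : ℕ} (hn : n < 2048) (h2 : σ * σ = 1) :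
    B.vel n * M.k σ * (B.vel n * M.k σ) = B.vel (Nat.xor n (pImg p n)) := by
  rw [M.mul_eq hp n hn, h2, map_one, mul_one]

/-- **An element checked by `jCheck` lies in `N_H(P)` and acts by its matrix.** -/
theorem jCheck_spec {v p m : ℕ} (h : jCheck v p m = true) {σ : ↥M24} (hσ : Rep σ.1 p) :
    S.Norm (B.vel v * M.k σ) ∧ B.Acts (B.vel v * M.k σ) m := by
  simp only [jCheck, normPerm, Bool.and_eq_true, Bool.or_eq_true, Nat.blt_eq, Nat.beq_eq] at h
  obtain ⟨⟨⟨⟨⟨hv, hPv⟩, ⟨-, hz⟩, hP⟩, hm⟩, hU⟩, hW⟩ := h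
  obtain ⟨π, hπ, hkπ⟩ := M.exists_pPerm
  have h1 : B.vel 1 = S.z := B.vel_one
  have hkz : Commute (M.k σ) S.z := by
    have := (M.hact σ p hσ 1 (by norm_num)).2
    rw [hz, h1] at this
    exact mul_inv_eq_iff_eq_mul.1 this
  have hg : Commute (B.vel v * M.k σ) S.z := by
    refine Commute.mul_left ?_ hkz
    rw [← h1]; exact B.vel_comm v 1
  have hpv : Commute (B.vel v) B.X.F.p := by
    have := (M.hact π pPerm hπ v hv).2
    rw [hPv, hkπ] at this
    exact (mul_inv_eq_iff_eq_mul.1 this : B.X.F.p * B.vel v = B.vel v * B.X.F.p).symm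
  have hconj : ∃ i : ℕ, M.k σ * B.X.F.p * (M.k σ)⁻¹ = B.X.F.p ^ i := by
    rcases hP with hP | hP
    · refine ⟨1, ?_⟩
      have e : σ * π = π * σ := Subtype.ext ((peq_iff (hσ.mul hπ) (hπ.mul hσ)).1 hP)
      rw [pow_one, ← hkπ, ← map_mul, e, map_mul, mul_inv_cancel_right]
    · refine ⟨2, ?_⟩
      have e : σ * π = π * (π * σ) := Subtype.ext ((peq_iff (hσ.mul hπ) (hπ.mul (hπ.mul hσ))).1 hP)
      rw [pow_two, ← hkπ, ← map_mul, e, map_mul, map_mul]; group
  refine ⟨⟨hg, fun r hr => ?_⟩, ?_⟩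
  · obtain ⟨j, rfl⟩ := B.X.F.P_eq hr
    obtain ⟨i, hi⟩ := hconj
    rw [← conj_pow, show B.vel v * M.k σ * B.X.F.p * (B.vel v * M.k σ)⁻¹ =
      B.vel v * (M.k σ * B.X.F.p * (M.k σ)⁻¹) * (B.vel v)⁻¹ by group, hi, (hpv.pow_right i).eq,
      mul_inv_cancel_right]
    exact pow_mem (pow_mem B.X.F.hpP _) _
  refine B.acts_of_basis hg hm fun j hj => ?_
  have hlow : ∀ c < 128, S.Zm (B.vel c) (B.U (c / 2)) := fun c hc => by
    rw [← B.el_vel hc, Setting.zm_iff]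
    have := B.el_q (n := c) (by omega)
    rwa [q, show c / 2 % 64 = c / 2 by omega, show c / 2 / 64 = 0 by omega, W_zero, mul_one] at this
  rcases Nat.lt_or_ge j 6 with hj6 | hj6
  · have h := forallLt_elim hU hj6
    simp only [Bool.and_eq_true, Nat.blt_eq, Nat.beq_eq] at h
    have hp2 : (2 : ℕ) ^ j < 64 := lt_of_lt_of_eq (Nat.pow_lt_pow_right (by norm_num) hj6) (by norm_num)
    have hp11 : 2 ^ (j + 1) < 2048 := by rw [pow_succ]; omega
    have hq : B.q (2 ^ j) = B.vel (2 ^ (j + 1)) := by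
      rw [q, Nat.mod_eq_of_lt hp2, Nat.div_eq_of_lt hp2, W_zero, mul_one, ← B.vel_U hp2,
        show Nat.shiftLeft (2 ^ j) 1 = (2 ^ j) <<< 1 from rfl, Nat.shiftLeft_eq, pow_one, pow_succ]
    rw [hq, show B.vel v * M.k σ * B.vel (2 ^ (j + 1)) * (B.vel v * M.k σ)⁻¹ =
      B.vel v * (M.k σ * B.vel (2 ^ (j + 1)) * (M.k σ)⁻¹) * (B.vel v)⁻¹ by group,
      (M.hact σ p hσ _ hp11).2, (B.vel_comm v _).eq, mul_inv_cancel_right]
    have hc : pImg p (2 ^ (j + 1)) < 128 := h.1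
    have e : mCol m j = pImg p (2 ^ (j + 1)) / 2 := h.2.trans (Nat.shiftRight_eq_div_pow _ 1)
    refine (hlow _ hc).trans (Or.inl ?_)
    rw [e, q, show pImg p (2 ^ (j + 1)) / 2 % 64 = pImg p (2 ^ (j + 1)) / 2 by omega,
      show pImg p (2 ^ (j + 1)) / 2 / 64 = 0 by omega, W_zero, mul_one]
  · obtain ⟨i, rfl⟩ : ∃ i, j = 6 + i := ⟨j - 6, by omega⟩
    have h := forallLt_elim hW (k := i) (by omega)
    simp only [Bool.and_eq_true, Nat.blt_eq, Nat.beq_eq] at h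
    obtain ⟨⟨hperm, hc128⟩, hcu⟩ := h
    have hp2 : (2 : ℕ) ^ i < 64 := lt_of_lt_of_eq (Nat.pow_lt_pow_right (by norm_num) (by omega : i < 6)) (by norm_num)
    set y := mCol m (6 + i) with hy
    have hy4 : y < 4096 := mCol_lt _ _
    have hshr : Nat.shiftRight y 6 = y / 64 := Nat.shiftRight_eq_div_pow y 6
    rw [hshr] at hperm hc128 hcu
    have hland : Nat.land y 63 = y % 64 := Nat.and_two_pow_sub_one_eq_mod y 6
    rw [hland] at hcu
    have hq : B.q (2 ^ (6 + i)) = B.W (2 ^ i) := by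
      rw [q, pow_add, show (2:ℕ)^6 = 64 from rfl, Nat.mul_mod_right, U_zero, one_mul, Nat.mul_div_cancel_left _ (by norm_num)]
    obtain ⟨τ, hτ, hkτ⟩ := M.exists_wPerm hp2
    obtain ⟨τ', hτ', hkτ'⟩ := M.exists_wPerm (show y / 64 < 64 by omega)
    have e : σ * τ = τ' * σ := Subtype.ext ((peq_iff (hσ.mul hτ) (hτ'.mul hσ)).1 hperm)
    rw [hq, ← hkτ, show B.vel v * M.k σ * M.k τ * (B.vel v * M.k σ)⁻¹ =
      B.vel v * (M.k σ * M.k τ * (M.k σ)⁻¹) * (B.vel v)⁻¹ by group, ← map_mul, e, map_mul, mul_inv_cancel_right,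
      B.vel_inv, show B.vel v * M.k τ' * B.vel v = B.vel v * (M.k τ' * B.vel v * (M.k τ')⁻¹) * M.k τ' by group,
      (M.hact τ' _ hτ' v hv).2, B.vel_xor, hkτ', q]
    refine ((hlow _ hc128).trans (Or.inl ?_)).mul_right _
    rw [← Nat.shiftRight_eq_div_pow _ 1]
    exact congrArg B.U hcu

/-- The class of an involution of `N(V)` by the quick test. -/
theorem isZ_iff [IsSimpleGroup G] (hG : ¬ IsMulCommutative G) (hJ : IsOfJankoFourType G) {n : ℕ} (hn : n < 2048)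
    {σ : ↥M24} {p : ℕ} (hp : Rep σ.1 p) (h2 : B.vel n * M.k σ * (B.vel n * M.k σ) = 1)
    (h1 : B.vel n * M.k σ ≠ 1) : IsConj S.z (B.vel n * M.k σ) ↔ fastZ n p = true := by
  rw [fastZ_eq hn]
  exact B.nvType_statement hG hJ M n σ p hn hp h2 h1

/-- What a flag says about the two elements over a vector. -/
theorem flag_spec [IsSimpleGroup G] (hG : ¬ IsMulCommutative G) (hJ : IsOfJankoFourType G) {v : ℕ} (hv : v < 2048)
    {σ : ↥M24} {p : ℕ} (hp : Rep σ.1 p) {y f : ℕ} (hy : y < 4096) (h : flagOK v p y f = true) :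
    let g := B.q y * (B.vel v * M.k σ)
    Commute (B.vel v * M.k σ) S.z → (f = 0 → g * g = S.z) ∧ (f ≠ 0 → g * g = 1 ∧ ¬ S.Zm g 1) ∧
      (f = 1 → IsConj S.z g ∧ IsConj S.z (S.z * g)) ∧
      (f = 2 → ¬ IsConj S.z g ∧ ¬ IsConj S.z (S.z * g)) ∧
      (f = 3 → (IsConj S.z g ↔ ¬ IsConj S.z (S.z * g))) ∧ f < 4 := by
  intro g hgvz
  obtain ⟨τ, hτ, hn, hg⟩ := M.q_mul_eq hy hv hp
  simp only [flagOK, Bool.and_eq_true, Bool.or_eq_true, Nat.blt_eq] at h
  obtain ⟨⟨⟨hsq, hne⟩, -⟩, hif⟩ := h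
  have ht2 : τ * τ = 1 := Subtype.ext ((peq_iff (hτ.mul hτ) Rep.one).1 hsq)
  have hgg : g * g = B.vel (Nat.xor (elCode y v) (pImg (elPerm y p) (elCode y v))) := by
    show B.q y * _ * (B.q y * _) = _
    rw [hg]; exact M.sq_eq hτ hn ht2
  have hx : Nat.xor (elCode y v) 1 < 2048 := Nat.xor_lt_two_pow (n := 11) hn (by norm_num)
  have hzg : S.z * g = B.vel (Nat.xor (elCode y v) 1) * M.k τ := by
    show S.z * (B.q y * _) = _
    rw [hg, ← B.vel_one, ← mul_assoc, B.vel_xor, show Nat.xor 1 (elCode y v) = Nat.xor (elCode y v) 1 from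
      Nat.xor_comm _ _]
  have hn1 : ∀ n' < 2048, (n' = elCode y v ∨ n' = Nat.xor (elCode y v) 1) → B.vel n' * M.k τ ≠ 1 := by
    intro n' hn' hor e
    obtain ⟨e1, e2⟩ := M.hinj n' 0 τ 1 hn' (by norm_num) (by rw [e, B.vel_zero, map_one, one_mul])
    rcases hne with hne | hne
    · rw [Bool.not_eq_true'] at hne
      rw [(peq_iff hτ Rep.one).2 (congrArg Subtype.val e2)] at hne
      exact Bool.noConfusion hne
    · rcases hor with r | r
      · omega
      · have : elCode y v = 1 := Nat.xor_eq_zero_iff.1 (r.symm.trans e1)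
        omega
  have hg1 : g ≠ 1 := by
    show B.q y * _ ≠ 1
    rw [hg]; exact hn1 _ hn (Or.inl rfl)
  have hzg1 : S.z * g ≠ 1 := by rw [hzg]; exact hn1 _ hx (Or.inr rfl)
  have hgz : Commute g S.z := (B.q_comm y).mul_left hgvz
  by_cases hf0 : f = 0
  · subst hf0
    rw [if_pos (show Nat.beq 0 0 = true from rfl), Nat.beq_eq] at hif
    exact ⟨fun _ => by rw [hgg, hif, B.vel_one], fun h => absurd rfl h, fun h => absurd h (by norm_num),
      fun h => absurd h (by norm_num), fun h => absurd h (by norm_num), by norm_num⟩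
  rw [if_neg (by rwa [Nat.beq_eq]), Bool.and_eq_true, Nat.beq_eq] at hif
  obtain ⟨hif0, hif⟩ := hif
  have hgg1 : g * g = 1 := by rw [hgg, hif0, B.vel_zero]
  have hzgg : S.z * g * (S.z * g) = 1 := by
    rw [show S.z * g * (S.z * g) = S.z * (g * S.z) * g by group, hgz.eq,
      show S.z * (S.z * g) * g = (S.z * S.z) * (g * g) by group, S.hE.mul_self_z, hgg1, one_mul]
  have hT : IsConj S.z g ↔ fastZ (elCode y v) (elPerm y p) = true := by
    show IsConj S.z (B.q y * _) ↔ _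
    rw [hg]
    refine M.isZ_iff hG hJ hn hτ ?_ (hn1 _ hn (Or.inl rfl))
    rw [← hg]; exact hgg1
  have hT' : IsConj S.z (S.z * g) ↔ fastZ (Nat.xor (elCode y v) 1) (elPerm y p) = true := by
    rw [hzg]
    exact M.isZ_iff hG hJ hx hτ (hzg ▸ hzgg) (hn1 _ hx (Or.inr rfl))
  have hzm : ¬ S.Zm g 1 := by
    rintro (e | e)
    · exact hg1 e
    · exact hzg1 (by rw [e, ← mul_assoc, S.hE.mul_self_z, one_mul])
  refine ⟨fun h => absurd h hf0, fun _ => ⟨hgg1, hzm⟩, ?_, ?_, ?_, ?_⟩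
  · rintro rfl
    rw [if_pos (show Nat.beq 1 1 = true from rfl), Bool.and_eq_true] at hif
    exact ⟨hT.2 hif.1, hT'.2 hif.2⟩
  · rintro rfl
    rw [if_neg (by decide), if_pos (show Nat.beq 2 2 = true from rfl), Bool.and_eq_true, Bool.not_eq_true',
      Bool.not_eq_true'] at hif
    exact ⟨fun e => by rw [hT.1 e] at hif; exact Bool.noConfusion hif.1,
      fun e => by rw [hT'.1 e] at hif; exact Bool.noConfusion hif.2⟩
  · rintro rfl
    rw [if_neg (by decide), if_neg (by decide), Bool.and_eq_true, bne_iff_ne] at hif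
    rw [hT, hT']
    revert hif
    cases fastZ (elCode y v) (elPerm y p) <;> cases fastZ (Nat.xor (elCode y v) 1) (elPerm y p) <;> simp
  · split_ifs at hif with a b
    · rw [Nat.beq_eq] at a; omega
    · rw [Nat.beq_eq] at b; omega
    · rw [Bool.and_eq_true, Nat.beq_eq] at hif; omega

end NVModel

end HexBase

end CfsgLib.JankoFour
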