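import Cfsg.Agent.Lib.JankoFourOrder.Coord.Model
import Cfsg.Agent.Lib.JankoFourOrder.Central.Words
import Cfsg.Agent.Lib.JankoFourOrder.Central.Elements
import Cfsg.Agent.Lib.JankoFourHexad.Duads
import Cfsg.Agent.Lib.JankoFourHexad.Fixer
import Cfsg.Agent.Lib.JankoFour.SylowThree
import Cfsg.Agent.Lib.Core.Coprime

/-!
# The listed matrices are all involutions of `N_H(P)` modulo `z` (owner: helper28)
-/

set_option autoImplicit false
set_option linter.unusedSectionVars false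
set_option maxRecDepth 100000

namespace CfsgLib.JankoFourOrder.Central

open CfsgLib.Sporadic (forallLt forallLt_elim)

theorem fixedP_facts : fixedP.length = 32 ∧ fixedP.Nodup := by decide +kernel

theorem klWord_lt (k : ℕ) : ∀ g ∈ klWord k, g < 2 := by
  have hb : ∀ i < 4, ∀ g ∈ basWord.getD i [], g < 2 := by
    intro i hi g hg
    have h := forallLt_elim bas_ok (show i < 9 by omega)
    simp only [Bool.and_eq_true, List.all_eq_true, Nat.blt_eq] at h
    exact h.1.1 g hg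
  have key : ∀ l : List ℕ, (∀ i ∈ l, i < 4) →
      ∀ g ∈ l.foldr (fun i w => if Nat.testBit k i then basWord.getD i [] ++ w else w) [], g < 2 := by
    intro l
    induction l with
    | nil => intro _ g hg; simp at hg
    | cons a l ih =>
      intro hl g hg
      have hl' := ih fun i hi => hl i (List.mem_cons_of_mem _ hi)
      rw [List.foldr_cons] at hg
      split_ifs at hg
      · rcases List.mem_append.1 hg with h | h
        exacts [hb a (hl a (List.mem_cons_self ..)) g h, hl' g h]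
      · exact hl' g hg
  exact key _ fun i hi => List.mem_range.1 hi

theorem fixedMat_closed {i : ℕ} (hi : i < 32) : Closed (fixedMat.getD i 0) := by
  have h := forallLt_elim fixed_mats hi
  rw [Bool.and_eq_true, Nat.beq_eq] at h
  rw [h.2]
  exact closed_word (klWord_lt _)

theorem basMat_closed {g : ℕ} (hg : g < 12) : Closed (basMat.getD g 0) := by
  rcases Nat.lt_or_ge g 9 with h9 | h9
  · have h := forallLt_elim bas_ok h9
    simp only [Bool.and_eq_true, List.all_eq_true, Nat.blt_eq, Nat.beq_eq] at h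
    rw [← h.1.2]
    exact closed_word h.1.1
  · obtain ⟨i, rfl⟩ : ∃ i, g = 9 + i := ⟨g - 9, by omega⟩
    have h := forallLt_elim abc_ok (show i < 3 by omega)
    simp only [Bool.and_eq_true, List.all_eq_true, Nat.blt_eq, Nat.beq_eq] at h
    rw [← h.1.1.2]
    exact closed_word h.1.1.1

end CfsgLib.JankoFourOrder.Central

namespace CfsgLib.JankoFour

open Cfsg CfsgLib.ThreeTrans CfsgLib.JankoFourHexad CfsgLib.JankoFourOrder CfsgLib.JankoFourOrder.Central
open CfsgLib.Sporadic (Rep pone pmul isAut forallLt forallLt_elim exists_M24_elt)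
open CfsgLib.ThreeTrans.M24Inv (peq peq_iff)
open Setting (Zm)

variable {G : Type*} [Group G] [Finite G]

namespace HexBase

variable {S : Setting G} {B : HexBase S}

theorem exists_perm_of_jCheck {v p m : ℕ} (h : jCheck v p m = true) : ∃ σ : ↥M24, Rep σ.1 p := by
  simp only [jCheck, normPerm, Bool.and_eq_true] at h
  exact exists_M24_elt h.1.1.1.2.1.1

/-- An element with a matrix that permutes the list. -/
def HasClosed (B : HexBase S) (g : G) : Prop := Commute g S.z ∧ ∃ m, Closed m ∧ B.Acts g m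

theorem HasClosed.mul {g h : G} (hg : B.HasClosed g) (hh : B.HasClosed h) : B.HasClosed (g * h) := by
  obtain ⟨hgz, m, hm, hma⟩ := hg
  obtain ⟨hhz, m', hm', hma'⟩ := hh
  exact ⟨hgz.mul_left hhz, _, hm.mMul hm', hma.mul B hma' hgz⟩

theorem hasClosed_one : B.HasClosed 1 := ⟨Commute.one_left _, mId, closed_mId, B.acts_one⟩

theorem HasClosed.pow {g : G} (hg : B.HasClosed g) : ∀ k : ℕ, B.HasClosed (g ^ k)
  | 0 => by rw [pow_zero]; exact hasClosed_one
  | k + 1 => by rw [pow_succ]; exact (hg.pow k).mul hg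

theorem hasClosed_zpowers {c : G} (hc : c ∈ Subgroup.zpowers S.z) : B.HasClosed c := by
  rcases S.hE.eq_or hc with rfl | rfl
  · exact hasClosed_one
  · exact ⟨Commute.refl _, mId, closed_mId, B.acts_one.congr B (Or.inr (mul_one _).symm)⟩

namespace NVModel

variable (M : B.NVModel)
include M

theorem commute_vel_p {n : ℕ} (hn : n < 2048) :
    Commute (B.vel n) B.X.F.p ↔ pImg pPerm n = n := by
  obtain ⟨π, hπ, hkπ⟩ := M.exists_pPerm
  have h := (M.hact π pPerm hπ n hn)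
  rw [hkπ] at h
  refine ⟨fun hc => B.vel_inj h.1 hn ?_, fun e => ?_⟩
  · rw [← h.2, ← hc.eq, mul_inv_cancel_right]
  · have h2 := h.2
    rw [e] at h2
    exact (mul_inv_eq_iff_eq_mul.1 h2).symm

theorem exists_fixed {n : ℕ} (hn : n < 2048) (hc : Commute (B.vel n) B.X.F.p) :
    ∃ i < 32, fixedP.getD i 0 = n := by
  have h := forallLt_elim fixed_ok hn
  rw [(M.commute_vel_p hn).1 hc] at h
  simp only [Bool.or_eq_true, Bool.not_eq_true', Nat.beq_refl, Bool.true_eq_false, false_or,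
    List.any_eq_true, Nat.beq_eq] at h
  obtain ⟨v, hv, rfl⟩ := h
  obtain ⟨i, hi, rfl⟩ := List.getElem_of_mem hv
  exact ⟨i, by rw [← fixedP_facts.1]; exact hi, List.getD_eq_getElem _ _ hi⟩

/-- A fixed vector with its matrix. -/
theorem fixed_spec {i : ℕ} (hi : i < 32) : fixedP.getD i 0 < 2048 ∧
    Commute (B.vel (fixedP.getD i 0)) B.X.F.p ∧ S.Norm (B.vel (fixedP.getD i 0)) ∧
      B.Acts (B.vel (fixedP.getD i 0)) (fixedMat.getD i 0) := by
  have h := forallLt_elim fixed_mats hi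
  rw [Bool.and_eq_true] at h
  have hj := h.1
  obtain ⟨hn, ha⟩ := M.jCheck_spec hj (σ := 1) Rep.one
  rw [map_one, mul_one] at hn ha
  simp only [jCheck, Bool.and_eq_true, Nat.blt_eq, Nat.beq_eq] at hj
  exact ⟨hj.1.1.1.1.1, (M.commute_vel_p hj.1.1.1.1.1).2 hj.1.1.1.1.2, hn, ha⟩

theorem perm_spec {p m : ℕ} (h : jCheck 0 p m = true) :
    ∃ σ : ↥M24, Rep σ.1 p ∧ S.Norm (M.k σ) ∧ B.Acts (M.k σ) m := by
  obtain ⟨σ, hσ⟩ := exists_perm_of_jCheck h
  obtain ⟨hn, ha⟩ := M.jCheck_spec h hσ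
  rw [B.vel_zero, one_mul] at hn ha
  exact ⟨σ, hσ, hn, ha⟩

theorem hasClosed_vel {n : ℕ} (hn : n < 2048) (hc : Commute (B.vel n) B.X.F.p) : B.HasClosed (B.vel n) := by
  obtain ⟨i, hi, rfl⟩ := M.exists_fixed hn hc
  obtain ⟨-, -, hN, ha⟩ := M.fixed_spec hi
  exact ⟨hN.1, _, fixedMat_closed hi, ha⟩

theorem p_acts_mat : B.Acts B.X.F.p (basMat.getD 8 0) := by
  obtain ⟨σ, hσ, -, ha⟩ := M.perm_spec abc_maps.2.2.2.2
  rwa [M.hp σ hσ] at ha

/-- An element of `N(V)` commuting with `p` and moving the codes as a listed permutation. -/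
theorem hasClosed_abc {g : ℕ} (hg : g < 3) {a : G} (ha : a ∈ B.NV) (hap : Commute a B.X.F.p) {f : ℕ → ℕ}
    (hf : B.ActsV a f) (hmap : sameMap (abcPerm.getD g 0) f = true) : B.HasClosed a := by
  have h := forallLt_elim abc_ok hg
  simp only [Bool.and_eq_true] at h
  obtain ⟨⟨-, hj⟩, hcomm⟩ := h
  obtain ⟨σ, hσ, hN, hact⟩ := M.perm_spec hj
  obtain ⟨π, hπ, hkπ⟩ := M.exists_pPerm
  have hkp : Commute (M.k σ) B.X.F.p := by
    have e : σ * π = π * σ := Subtype.ext ((peq_iff (hσ.mul hπ) (hπ.mul hσ)).1 hcomm)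
    rw [← hkπ]
    show M.k σ * M.k π = M.k π * M.k σ
    rw [← map_mul, ← map_mul, e]
  have hNVk : M.k σ ∈ B.NV := M.hk σ
  have hsame : ∀ j < 11, B.act a (2 ^ j) = B.act (M.k σ) (2 ^ j) := by
    intro j hj'
    have h2 : (2 : ℕ) ^ j < 2048 :=
      lt_of_lt_of_eq (Nat.pow_lt_pow_right (by norm_num) hj') (by norm_num)
    have e := Nat.eq_of_beq_eq_true (forallLt_elim hmap hj')
    obtain ⟨h3, h4⟩ := M.hact σ _ hσ _ h2
    rw [B.act_of_actsV hf h2, B.act_eq hNVk h2 h3 h4]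
    exact e.symm
  have hall : ∀ n < 2048, B.act a n = B.act (M.k σ) n := by
    intro n hn
    have key : ∀ k ≤ 11, B.act a (xfold (fun j => 2 ^ j) n k) = B.act (M.k σ) (xfold (fun j => 2 ^ j) n k) := by
      intro k hk
      induction k with
      | zero => exact (B.act_zero ha).trans (B.act_zero hNVk).symm
      | succ k ih =>
        rw [xfold_eq, B.act_xor ha, B.act_xor hNVk, ih (by omega)]
        split_ifs
        · rw [hsame k (by omega)]
        · rw [B.act_zero ha, B.act_zero hNVk]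
    have := key 11 le_rfl
    rwa [show xfold (fun j => 2 ^ j) n 11 = n from Nat.eq_of_beq_eq_true (forallLt_elim bits_ok hn)] at this
  have hV : a * (M.k σ)⁻¹ ∈ B.V := by
    refine B.centralizer_V (Subgroup.mem_centralizer_iff.2 fun x hx => ?_)
    obtain ⟨hn, hx'⟩ := B.code_spec hx
    obtain ⟨n, hnlt, rfl⟩ : ∃ n < 2048, x = B.vel n := ⟨_, hn, hx'.symm⟩
    set m := B.act (M.k σ)⁻¹ n with hm
    have hm2 : m < 2048 := B.act_lt _ _
    have e1 : (M.k σ)⁻¹ * B.vel n * (M.k σ) = B.vel m := by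
      rw [hm, B.vel_act (inv_mem hNVk) hnlt, inv_inv]
    have e2 : a * B.vel m * a⁻¹ = B.vel n := by
      rw [← B.vel_act ha hm2, hall m hm2, B.vel_act hNVk hm2, ← e1]
      group
    calc B.vel n * (a * (M.k σ)⁻¹) = (a * B.vel m * a⁻¹) * (a * (M.k σ)⁻¹) := by rw [e2]
      _ = a * B.vel m * (M.k σ)⁻¹ := by group
      _ = a * (M.k σ)⁻¹ * B.vel n := by rw [← e1]; group
  obtain ⟨hn, hv⟩ := B.code_spec hV
  have hvc : Commute (B.vel (B.code (a * (M.k σ)⁻¹))) B.X.F.p := by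
    rw [hv]; exact hap.mul_left hkp.inv_left
  have := (M.hasClosed_vel hn hvc).mul (h := M.k σ) ⟨hN.1, _, basMat_closed (g := 9 + g) (by omega), hact⟩
  rwa [hv, inv_mul_cancel_right] at this

theorem hasClosed_gen [IsSimpleGroup G] (hG : ¬ IsMulCommutative G) (hJ : IsOfJankoFourType G) (g : ℕ) :
    B.HasClosed (B.gen g) := by
  have hc : ∀ {x : G}, x ∈ S.C → Commute x B.X.F.p := fun hx => (B.X.F.commute_p hx)
  unfold gen
  split_ifs
  · exact M.hasClosed_abc (g := 0) (by norm_num) (B.actsV_norm B.a_actsV) (hc B.X.F.haC) B.a_actsV abc_maps.1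
  · exact M.hasClosed_abc (g := 1) (by norm_num) (B.actsV_norm B.b_actsV) (hc B.X.F.hbC) B.b_actsV abc_maps.2.1
  · refine M.hasClosed_abc (g := 2) (by norm_num) (B.actsV_norm B.cc_actsV) (hc B.cc_mem) B.cc_actsV ?_
    rw [(B.duads_spec hG hJ).1]
    exact abc_maps.2.2.1

theorem hasClosed_tw [IsSimpleGroup G] (hG : ¬ IsMulCommutative G) (hJ : IsOfJankoFourType G) :
    ∀ w : List ℕ, B.HasClosed (B.tw w)
  | [] => hasClosed_one
  | g :: w => (M.hasClosed_gen hG hJ g).mul (hasClosed_tw hG hJ w)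

/-- Generators of `C` acting by a word. -/
theorem hasClosed_of_word {w : List ℕ} (hw : ∀ g ∈ w, g < 9) {t : G} (ht : t ∈ S.C)
    (hta : B.ActsQ t (qWord w)) : B.HasClosed t := by
  have key : ∃ t', B.HasClosed t' ∧ B.ActsQ t' (qWord w) := by
    clear hta
    induction w using List.reverseRecOn with
    | nil => exact ⟨1, hasClosed_one, fun n hn => ⟨hn, by simp [qWord]⟩⟩
    | append_singleton w g ih =>
      obtain ⟨t', ⟨htz, m, hm, hma⟩, hq⟩ := ih fun x hx => hw x (List.mem_append_left _ hx)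
      have hg : g < 9 := hw g (by simp)
      obtain ⟨s, hs, hsq⟩ := B.exists_gen ⟨g, hg⟩
      have h := forallLt_elim bas_ok hg
      simp only [Bool.and_eq_true] at h
      have hlt : basMat.getD g 0 < 2 ^ 144 := by
        rw [← Nat.eq_of_beq_eq_true h.1.2]; exact wordMat_lt _
      have hsa : B.Acts s (basMat.getD g 0) := B.acts_of_actsQ (Frame.commute_z hs) hsq hlt fun j hj =>
        Nat.eq_of_beq_eq_true (forallLt_elim h.2 hj)
      refine ⟨s * t', HasClosed.mul ⟨Frame.commute_z hs, _, basMat_closed (by omega), hsa⟩ ⟨htz, m, hm, hma⟩, ?_⟩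
      intro n hn
      rw [qWord, List.foldl_append]
      exact B.actsQ_comp (Frame.commute_z hs) hq hsq n hn
  obtain ⟨t', ⟨-, m, hm, hma⟩, hq⟩ := key
  refine ⟨Frame.commute_z ht, m, hm, B.acts_of_actsQ (Frame.commute_z ht) hta hma.1 fun j hj => ?_⟩
  have hp : 2 ^ j < 4096 := lt_of_lt_of_eq (Nat.pow_lt_pow_right (by norm_num) hj) (by norm_num)
  obtain ⟨h1, h2⟩ := hq _ hp
  have h3 := hma.2 _ hp
  have he2 : mMul m (2 ^ j) = mCol m j := by
    have e1 := mCol_mMul m mId hj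
    rw [mMul_mId hma.1, mCol_mId ⟨j, hj⟩] at e1
    rw [mMul_vec m hp, e1]
  rw [he2] at h3
  exact B.q_eq_of_zm h1 (mCol_lt _ _) ((Setting.zm_iff.2 h2).symm.trans h3)

/-- Every element of `C` permutes the list. -/
theorem hasClosed_C [IsSimpleGroup G] (hG : ¬ IsMulCommutative G) (hJ : IsOfJankoFourType G) {c : G}
    (hc : c ∈ S.C) : B.HasClosed c := by
  obtain ⟨j, t, htC, hta, hd⟩ := B.exists_word_rep (S.C_le_H0 hc)
  have ht := M.hasClosed_of_word (word_ok j).1 htC hta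
  have hdC : t⁻¹ * c ∈ S.C := mul_mem (inv_mem htC) hc
  obtain ⟨⟨e, k, i⟩, he⟩ := B.nmap_surjective
    ⟨t⁻¹ * c, B.norm_eq ▸ Subgroup.mem_inf.2 ⟨S.C_le_H0 hdC, hd⟩⟩
  have he' : (e : G) * B.vel (Nat.shiftLeft k.1 7) * B.tw (altWord i.1) = t⁻¹ * c := congrArg Subtype.val he
  have hkC := B.velK_mem k.2
  have htwC := B.tw_mem (altWord i.1)
  have heC : (e : G) ∈ S.C := by
    rw [show (e : G) = t⁻¹ * c * (B.tw (altWord i.1))⁻¹ * (B.vel (Nat.shiftLeft k.1 7))⁻¹ by rw [← he']; group]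
    exact mul_mem (mul_mem hdC (inv_mem htwC)) (inv_mem hkC)
  obtain ⟨q, hq, z', hz', heq⟩ := S.C_inf_EP heC e.2
  obtain ⟨r, rfl⟩ := B.X.F.P_eq hq
  have hp : B.HasClosed B.X.F.p :=
    ⟨Frame.commute_z B.X.F.hpC, _, basMat_closed (by norm_num), M.p_acts_mat⟩
  have heCl : B.HasClosed (e : G) := by rw [heq]; exact (hp.pow r).mul (hasClosed_zpowers hz')
  rw [show c = t * ((e : G) * B.vel (Nat.shiftLeft k.1 7) * B.tw (altWord i.1)) by rw [he', mul_inv_cancel_left]]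
  exact ht.mul ((heCl.mul (M.hasClosed_vel (shift_lt k.2) (B.X.F.commute_p hkC))).mul (M.hasClosed_tw hG hJ _))

/-- The chosen elements of `N_H(P)`. -/
def InSyl (M : B.NVModel) (g : G) : Prop :=
  ∃ v < 2048, Commute (B.vel v) B.X.F.p ∧ ∃ j < 16, ∃ σ : ↥M24, Rep σ.1 (sylPerm.getD j 0) ∧ g = B.vel v * M.k σ

theorem syl_norm {j : ℕ} (hj : j < 16) {σ : ↥M24} (hσ : Rep σ.1 (sylPerm.getD j 0)) :
    S.Norm (M.k σ) ∧ B.Acts (M.k σ) (sylMat.getD j 0) := by
  have h := forallLt_elim syl_ok hj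
  rw [Bool.and_eq_true] at h
  obtain ⟨hn, ha⟩ := M.jCheck_spec h.1 hσ
  rw [B.vel_zero, one_mul] at hn ha
  exact ⟨hn, ha⟩

theorem conj_commute_p {g x : G} (hg : S.Norm g) (hx : Commute x B.X.F.p) :
    Commute (g * x * g⁻¹) B.X.F.p := by
  have hr := (hg.inv S).2 _ B.X.F.hpP
  rw [inv_inv] at hr
  obtain ⟨i, hi⟩ := B.X.F.P_eq hr
  have h2 : Commute x (g⁻¹ * B.X.F.p * g) := by rw [hi]; exact hx.pow_right i
  have h3 := h2.map (MulAut.conj g).toMonoidHom
  change Commute (g * x * g⁻¹) (g * (g⁻¹ * B.X.F.p * g) * g⁻¹) at h3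
  rwa [show g * (g⁻¹ * B.X.F.p * g) * g⁻¹ = B.X.F.p by group] at h3

theorem inSyl_one : M.InSyl 1 :=
  ⟨0, by norm_num, by rw [B.vel_zero]; exact Commute.one_left _, 0, by norm_num, 1, by
    obtain ⟨σ, hσ⟩ := exists_perm_of_jCheck (Bool.and_eq_true_iff.1 (forallLt_elim syl_ok (by norm_num : 0 < 16))).1
    have := (peq_iff hσ Rep.one).1 syl_outer.2.1
    rw [this] at hσ; exact hσ, by rw [B.vel_zero, map_one, one_mul]⟩

theorem inSyl_mul {g h : G} (hg : M.InSyl g) (hh : M.InSyl h) : M.InSyl (g * h) := by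
  obtain ⟨v, hv, hvc, j, hj, σ, hσ, rfl⟩ := hg
  obtain ⟨w, hw, hwc, k, hk, τ, hτ, rfl⟩ := hh
  have hj' := forallLt_elim syl_ok hj
  rw [Bool.and_eq_true] at hj'
  have hk' := forallLt_elim hj'.2 hk
  rw [Bool.and_eq_true, Nat.blt_eq] at hk'
  obtain ⟨l, hl⟩ : ∃ ρ : ↥M24, Rep ρ.1 (sylPerm.getD ((sylMul.getD j []).getD k 16) 0) :=
    exists_perm_of_jCheck (Bool.and_eq_true_iff.1 (forallLt_elim syl_ok hk'.1)).1
  have e : σ * τ = l := Subtype.ext ((peq_iff (hσ.mul hτ) hl).1 hk'.2)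
  have hp := M.pImg_lt hσ hw
  refine ⟨Nat.xor v (pImg (sylPerm.getD j 0) w), Nat.xor_lt_two_pow (n := 11) hv hp, ?_, _, hk'.1, l, hl, ?_⟩
  · rw [← B.vel_xor, ← (M.hact σ _ hσ w hw).2]
    exact hvc.mul_left (M.conj_commute_p (M.syl_norm hj hσ).1 hwc)
  · rw [M.mul_eq hσ v hw, e]

/-- The Sylow subgroup. -/
noncomputable def sylT (M : B.NVModel) : Subgroup G where
  carrier := {g | M.InSyl g}
  one_mem' := M.inSyl_one
  mul_mem' := M.inSyl_mul
  inv_mem' {g} hg := by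
    have hpow : ∀ n : ℕ, M.InSyl (g ^ n) := by
      intro n
      induction n with
      | zero => rw [pow_zero]; exact M.inSyl_one
      | succ n ih => rw [pow_succ]; exact M.inSyl_mul ih hg
    show M.InSyl g⁻¹
    rw [show g⁻¹ = g ^ (orderOf g - 1) from inv_eq_of_mul_eq_one_right (by
      rw [← pow_succ', Nat.sub_add_cancel (orderOf_pos g), pow_orderOf_eq_one])]
    exact hpow _

theorem sylT_le : M.sylT ≤ S.H ⊓ Subgroup.normalizer (S.P : Set G) := by
  rintro g ⟨v, hv, hvc, j, hj, σ, hσ, rfl⟩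
  obtain ⟨i, hi, rfl⟩ := M.exists_fixed hv hvc
  exact S.norm_iff.1 ((M.fixed_spec hi).2.2.1.mul S (M.syl_norm hj hσ).1)

theorem card_sylT : Nat.card ↥M.sylT = 512 := by
  classical
  have hσ : ∀ j : Fin 16, ∃ σ : ↥M24, Rep σ.1 (sylPerm.getD j.1 0) := fun j =>
    exists_perm_of_jCheck (Bool.and_eq_true_iff.1 (forallLt_elim syl_ok j.2)).1
  choose σ hσr using hσ
  let f : Fin 32 × Fin 16 → ↥M.sylT := fun x => ⟨B.vel (fixedP.getD x.1.1 0) * M.k (σ x.2),
    ⟨_, (M.fixed_spec x.1.2).1, (M.fixed_spec x.1.2).2.1, x.2.1, x.2.2, σ x.2, hσr x.2, rfl⟩⟩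
  have hf : Function.Bijective f := by
    constructor
    · rintro ⟨i, j⟩ ⟨i', j'⟩ e
      obtain ⟨e1, e2⟩ := M.hinj _ _ _ _ (M.fixed_spec i.2).1 (M.fixed_spec i'.2).1 (congrArg Subtype.val e)
      have hi : i = i' := by
        have hl := fixedP_facts.1
        rw [List.getD_eq_getElem _ _ (hl.symm ▸ i.2), List.getD_eq_getElem _ _ (hl.symm ▸ i'.2)] at e1
        exact Fin.ext ((fixedP_facts.2.getElem_inj_iff).1 e1)
      have hj : j = j' := by
        have hd := forallLt_elim (forallLt_elim syl_distinct j.2) j'.2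
        rw [Bool.or_eq_true, Nat.beq_eq, Bool.not_eq_true',
          (peq_iff (hσr j) (hσr j')).2 (congrArg Subtype.val e2)] at hd
        exact Fin.ext (hd.resolve_right (by simp))
      rw [hi, hj]
    · rintro ⟨g, v, hv, hvc, j, hj, τ, hτ, rfl⟩
      obtain ⟨i, hi, rfl⟩ := M.exists_fixed hv hvc
      refine ⟨(⟨i, hi⟩, ⟨j, hj⟩), Subtype.ext ?_⟩
      show _ * M.k (σ ⟨j, hj⟩) = _ * M.k τ
      rw [show σ ⟨j, hj⟩ = τ from Subtype.ext
        ((peq_iff (hσr ⟨j, hj⟩) hτ).1 ((peq_iff (hσr ⟨j, hj⟩) (hσr ⟨j, hj⟩)).2 rfl))]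
  rw [← Nat.card_eq_of_bijective f hf, Nat.card_prod, Nat.card_fin, Nat.card_fin]

/-- An element of the chosen subgroup outside `H0`. -/
theorem exists_outer_syl : ∃ s ∈ M.sylT, s ∉ S.H0 := by
  obtain ⟨hlt, -, hne⟩ := syl_outer
  obtain ⟨σ, hσ⟩ := exists_perm_of_jCheck (Bool.and_eq_true_iff.1 (forallLt_elim syl_ok hlt)).1
  obtain ⟨π, hπ, hkπ⟩ := M.exists_pPerm
  refine ⟨M.k σ, ⟨0, by norm_num, by rw [B.vel_zero]; exact Commute.one_left _, _, hlt, σ, hσ,
    by rw [B.vel_zero, one_mul]⟩, fun h0 => ?_⟩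
  have hc : Commute (M.k σ) (M.k π) := by
    rw [hkπ]; exact B.X.F.commute_p (S.norm_inner_mem_C (M.syl_norm hlt hσ).1 h0)
  have e : M.k (σ * π) = M.k (π * σ) := by rw [map_mul, map_mul]; exact hc.eq
  have e2 := (M.hinj 0 0 _ _ (by norm_num) (by norm_num) (congrArg (B.vel 0 * ·) e)).2
  rw [(peq_iff (hσ.mul hπ) (hπ.mul hσ)).2 (congrArg Subtype.val e2)] at hne
  exact Bool.noConfusion hne

theorem card_normP : Nat.card ↥(S.H ⊓ Subgroup.normalizer (S.P : Set G)) = 2 * (6 * 443520) := by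
  have : Nonempty (Frame S) := ⟨B.X.F⟩
  set K := S.H ⊓ Subgroup.normalizer (S.P : Set G)
  have hCK : S.C ≤ K := fun x hx => S.norm_iff.1 (S.norm_of_mem_C hx)
  obtain ⟨s, hsT, hs0⟩ := M.exists_outer_syl
  have hsK : s ∈ K := M.sylT_le hsT
  have hsz := (S.norm_iff.2 hsK).1
  have hidx : (S.C.subgroupOf K).index = 2 := by
    refine Subgroup.index_eq_two_iff.2 ⟨⟨s, hsK⟩, fun b => ?_⟩
    have hb := S.norm_iff.2 b.2
    rw [Subgroup.mem_subgroupOf, Subgroup.mem_subgroupOf]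
    show Xor ((b : G) * s ∈ S.C) ((b : G) ∈ S.C)
    by_cases hb0 : (b : G) ∈ S.H0
    · refine Or.inr ⟨S.norm_inner_mem_C hb hb0, fun h => hs0 ?_⟩
      have := mul_mem (inv_mem hb0) (S.C_le_H0 h)
      rwa [inv_mul_cancel_left] at this
    · exact Or.inl ⟨S.norm_inner_mem_C (hb.mul S (S.norm_iff.2 hsK)) (S.hidx _ _ hb.1 hsz hb0 hs0),
        fun h => hb0 (S.C_le_H0 h)⟩
  have h := (S.C.subgroupOf K).card_mul_index
  rw [hidx, Nat.card_congr (Subgroup.subgroupOfEquivOfLe hCK).toEquiv, B.X.F.card_C] at h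
  omega

end NVModel

/-- **An involution of `N_H(P)` modulo `z` has a listed matrix.** -/
theorem involution_matrix [IsSimpleGroup G] (hG : ¬ IsMulCommutative G) (hJ : IsOfJankoFourType G) {n : G} {m : ℕ}
    (hn : S.Norm n) (h : B.Acts n m) (h2 : mMul m m = mId) : ∃ i < 6304, Central.LT i = m := by
  classical
  have : Fact (Nat.Prime 2) := ⟨Nat.prime_two⟩
  obtain ⟨M⟩ := B.exists_nvModel hG hJ
  set K := S.H ⊓ Subgroup.normalizer (S.P : Set G)
  have hnn : S.Zm (n * n) 1 := B.acts_kernel (hn.mul S hn) (h2 ▸ h.mul B h hn.1)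
  have hn4 : n ^ 4 = 1 := by
    rw [show n ^ 4 = n * n * (n * n) by rw [show 4 = 2 + 2 from rfl, pow_add, pow_two]]
    have := hnn.sq (Commute.one_left _)
    rw [this, one_mul]
  have hTK := M.sylT_le
  let T : Sylow 2 K := Sylow.ofCard (M.sylT.subgroupOf K) (by
    rw [Nat.card_congr (Subgroup.subgroupOfEquivOfLe hTK).toEquiv, M.card_sylT, M.card_normP,
      show 2 * (6 * 443520) = 2 ^ 9 * 10395 by norm_num, Nat.factorization_mul (by norm_num) (by norm_num),
      Finsupp.add_apply, Nat.Prime.factorization_pow Nat.prime_two, Finsupp.single_eq_same,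
      Nat.factorization_eq_zero_of_not_dvd (by norm_num : ¬ 2 ∣ 10395)]
    norm_num)
  have hTmap : (T : Subgroup K).map K.subtype = M.sylT := by
    rw [Sylow.coe_ofCard, Subgroup.map_subgroupOf_eq_of_le hTK]
  let n' : K := ⟨n, S.norm_iff.1 hn⟩
  have hpg : IsPGroup 2 ↥(Subgroup.zpowers n') := by
    obtain ⟨k, -, hk⟩ := (Nat.dvd_prime_pow Nat.prime_two).1
      (orderOf_dvd_of_pow_eq_one (show n' ^ (2 ^ 2) = 1 from Subtype.ext (by simpa using hn4)))
    exact IsPGroup.of_card (n := k) (by rw [Nat.card_zpowers, hk])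
  obtain ⟨Q, hQ⟩ := hpg.exists_le_sylow
  obtain ⟨k, hk, hkQ⟩ := CfsgLib.Core.exists_conj_of_card_eq T (Q := (Q : Subgroup K).map K.subtype)
    (Subgroup.map_subtype_le _) (by
      rw [Subgroup.card_map_of_injective K.subtype_injective, Subgroup.card_map_of_injective K.subtype_injective,
        Q.card_eq_multiplicity, T.card_eq_multiplicity])
  have hgT : k⁻¹ * n * k ∈ M.sylT := by
    have hnQ : n ∈ (Q : Subgroup K).map K.subtype := ⟨n', hQ (Subgroup.mem_zpowers n'), rfl⟩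
    rw [← hkQ, hTmap, CfsgLib.Core.conj_smul_eq_map] at hnQ
    obtain ⟨x, hx, rfl⟩ := hnQ
    rwa [show k⁻¹ * (MulAut.conj k).toMonoidHom x * k = x by
      show k⁻¹ * (k * x * k⁻¹) * k = x
      group]
  obtain ⟨c, hc, hcT⟩ : ∃ c ∈ S.C, c * n * c⁻¹ ∈ M.sylT := by
    have hkN := (S.norm_iff.2 hk).inv S
    by_cases h0 : k⁻¹ ∈ S.H0
    · exact ⟨k⁻¹, S.norm_inner_mem_C hkN h0, by rwa [inv_inv]⟩
    · obtain ⟨s, hsT, hs0⟩ := M.exists_outer_syl
      have hsN := S.norm_iff.2 (hTK hsT)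
      refine ⟨s * k⁻¹, S.norm_inner_mem_C (hsN.mul S hkN) (S.hidx _ _ hsN.1 hkN.1 hs0 h0), ?_⟩
      rw [show s * k⁻¹ * n * (s * k⁻¹)⁻¹ = s * (k⁻¹ * n * k) * s⁻¹ by group]
      exact mul_mem (mul_mem hsT hgT) (inv_mem hsT)
  obtain ⟨v, hv, hvc, j, hj, σ, hσ, e⟩ := hcT
  obtain ⟨i, hi, rfl⟩ := M.exists_fixed hv hvc
  obtain ⟨-, -, hvN, hva⟩ := M.fixed_spec hi
  obtain ⟨-, hsa⟩ := M.syl_norm hj hσ
  set m' := mMul (fixedMat.getD i 0) (sylMat.getD j 0) with hm'
  have hta : B.Acts (c * n * c⁻¹) m' := by rw [e]; exact hva.mul B hsa hvN.1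
  have hcz : Commute c S.z := (S.mem_C.1 hc).1
  have hsq : mMul m' m' = mId := by
    refine (hta.mul B hta ((hcz.mul_left hn.1).mul_left hcz.inv_left)).unique B ?_
    refine B.acts_one.congr B ?_
    have := hnn.conj hcz
    rwa [mul_one, mul_inv_cancel, show c * (n * n) * c⁻¹ = c * n * c⁻¹ * (c * n * c⁻¹) by group] at this
  obtain ⟨L, hL, hLm⟩ : ∃ L < 6304, Central.LT L = m' := by
    have hg := forallLt_elim good_ok (show i * 16 + j < 512 by omega)
    have hd : Nat.div (i * 16 + j) 16 = i := by show (i * 16 + j) / 16 = i; omega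
    have hmod : Nat.mod (i * 16 + j) 16 = j := by show (i * 16 + j) % 16 = j; omega
    rw [goodOK, hd, hmod, ← hm'] at hg
    split_ifs at hg with hs
    · rw [Bool.not_eq_true', hsq, Nat.beq_refl] at hg
      exact Bool.noConfusion hg
    · rw [Bool.and_eq_true, Nat.blt_eq, Nat.beq_eq] at hg
      exact ⟨_, hg.1, hg.2⟩
  obtain ⟨hciz, hi', hci, hcia⟩ := M.hasClosed_C hG hJ (inv_mem hc)
  obtain ⟨-, hm'', -, hca⟩ := M.hasClosed_C hG hJ hc
  obtain ⟨L', hL', he⟩ := hci L hL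
  refine ⟨L', hL', Eq.symm (h.unique B ?_)⟩
  have h3 := (hcia.mul B hta hciz).mul B hca (hciz.mul_left ((hcz.mul_left hn.1).mul_left hcz.inv_left))
  rw [show c⁻¹ * (c * n * c⁻¹) * c = n by group, ← hLm, he, mMul_assoc] at h3
  have hone : mMul hi' hm'' = mId := (hcia.mul B hca hciz).unique B (by rw [inv_mul_cancel]; exact B.acts_one)
  rwa [hone, mMul_mId (LT_lt L')] at h3

end HexBase

end CfsgLib.JankoFour
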