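import Cfsg.Agent.Lib.JankoFourOrder.Central.Total
import Cfsg.Agent.Lib.JankoFourOrder.Central.Complete
import Cfsg.Agent.Lib.JankoFourBridge.Main

/-!
# The count at `z` and the order of a group of Janko-four type (owner: helper17)
-/

set_option autoImplicit false

namespace CfsgLib.JankoFour

open Cfsg CfsgLib.ThreeTrans CfsgLib.JankoFourOrder CfsgLib.JankoFourOrder.Central

variable {G : Type*} [Group G] [Finite G]

namespace HexBase

/-- **Slice C**: the pairs with `z` among the powers of the product. -/
theorem central_pair_count [IsSimpleGroup G] (hG : ¬ IsMulCommutative G) (hJ : IsOfJankoFourType G)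
    {S : Setting G} (B : HexBase S) : B.CentralPairCount := by
  obtain ⟨M⟩ := B.exists_nvModel hG hJ
  exact central_pair_count_of_complete hG hJ M fun _ _ hn ha h2 => B.involution_matrix hG hJ hn ha h2

end HexBase

/-- **A simple group of Janko-four type has the order of the fourth Janko group.** -/
theorem card_eq [IsSimpleGroup G] (hG : ¬ IsMulCommutative G) (hJ : IsOfJankoFourType G) :
    Nat.card G = 86775571046077562880 :=
  CfsgLib.JankoFourBridge.card_of_type hG hJ fun _ B => B.central_pair_count hG hJ

end CfsgLib.JankoFour
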