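import Cfsg.Agent.Lib.JankoFourOrder.Central.Count

/-!
# The count of pairs at `z` in the form the wrappers take (owner: helper28)
-/

set_option autoImplicit false

namespace CfsgLib.JankoFour

open Cfsg

variable {G : Type*} [Group G] [Finite G] [IsSimpleGroup G]

/-- **Slice C**, as a hypothesis for `card_of_type`. -/
theorem central_pair_count (hG : ¬ IsMulCommutative G) (hJ : IsOfJankoFourType G) (S : Setting G)
    (B : HexBase S) : B.CentralPairCount :=
  B.central_pair_count hG hJ

/-- A group of Janko-four type has the order of `J₄`. -/
theorem card_of_janko_type (hG : ¬ IsMulCommutative G) (hJ : IsOfJankoFourType G) :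
    Nat.card G = 86775571046077562880 :=
  card_eq hG hJ

end CfsgLib.JankoFour
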