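import Cfsg.Agent.Lib.JankoFourOrder.Central.Value
import Cfsg.Agent.Lib.JankoFourOrder.Central.CheckRep0
import Cfsg.Agent.Lib.JankoFourOrder.Central.CheckRep1
import Cfsg.Agent.Lib.JankoFourOrder.Central.CheckRep2
import Cfsg.Agent.Lib.JankoFourOrder.Central.CheckRep3
import Cfsg.Agent.Lib.JankoFourOrder.Sig

/-!
# The pairs with `z` among the powers of the product: the total (owner: helper17)
-/

set_option autoImplicit false
set_option linter.unusedSectionVars false
set_option maxRecDepth 100000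

namespace CfsgLib.JankoFourOrder.Central

open CfsgLib.Sporadic (forallLt forallLt_elim)

/-- The number of lifts in the class of `z`, from a flag. -/
def zWeight (f : ℕ) : ℕ := [0, 2, 0, 1].getD f 0

/-- The number of partners, from class and flag. -/
def zVal (c f : ℕ) : ℕ :=
  if c = 0 then (if f = 3 then 9217 else if f = 1 then 255776 else 0)
  else if c = 1 then (if f = 3 then 5505 else 0) else 0

/-- Vectors, weights and values over a representative. -/
noncomputable def zEntries (c : ℕ) : List (ℕ × ℕ × ℕ) :=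
  if c = 3 then (0, 1, 0) :: zList.map fun y => (y, 2, 257408)
  else (repTable.getD c []).map fun e => (e.1, zWeight e.2, zVal c e.2)

/-- The weighted sum. -/
noncomputable def zSum (c : ℕ) : ℕ :=
  (zEntries c).foldr (fun e s => Nat.add (Nat.mul e.2.1 e.2.2) s) 0

theorem zSum_total : Nat.add (Nat.add (Nat.mul 1155 (zSum 0)) (Nat.mul 990 (zSum 1)))
    (Nat.add (Nat.mul 4158 (zSum 2)) (zSum 3)) = 29236337328 := by decide +kernel

/-- A translation moves a vector to the origin. -/
noncomputable def toOrigin (c : ℕ) (l : List (ℕ × ℕ)) : Bool :=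
  (repTable.getD c []).all fun e => !Nat.beq e.2 3 ||
    l.any fun d => Nat.beq d.1 e.1 && Nat.blt d.2 4096 &&
      Nat.beq (Nat.xor (Nat.xor d.2 e.1) (mMul (repM c) d.2)) 0

theorem origin_ok : toOrigin 0 mixedInner = true ∧ toOrigin 1 mixedOuter = true := by decide +kernel

theorem flags_ok : (repTable.getD 0 []).all (fun e => Nat.blt e.2 4) = true ∧
    (repTable.getD 1 []).all (fun e => Nat.beq e.2 3) = true ∧
    (repTable.getD 2 []).all (fun e => Nat.beq e.2 2) = true := by decide +kernel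

theorem coset_ok : (repTable.getD 0 []).all (fun e => !Nat.beq e.2 1 ||
    cosetCert.any fun d => Nat.beq d.1 e.1 && Nat.blt d.2.1 4096 && Nat.blt d.2.2 3 &&
      Nat.beq (Nat.xor (Nat.xor d.2.1 (mMul (wordMat (cosetWord.getD d.2.2 [])) innerX))
        (mMul (repM 0) d.2.1)) e.1) = true ∧
    forallLt 3 (fun k => (cosetWord.getD k []).all (fun x => Nat.blt x 2) &&
      Nat.beq (mMul (wordMat (cosetWord.getD k [])) (repM 0))
        (mMul (repM 0) (wordMat (cosetWord.getD k [])))) = true := by decide +kernel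

theorem roots_eq : eVec 0 = 5 ∧ innerX = 16 := by decide +kernel

theorem rep0_ok : RepOK Rep0.data :=
  ⟨Rep0.gens_ok, Rep0.roots_ok, fun _ hj => split_check Rep0.steps_a Rep0.steps_b hj⟩

theorem rep1_ok : RepOK Rep1.data :=
  ⟨Rep1.gens_ok, Rep1.roots_ok, fun _ hj => split_check Rep1.steps_a Rep1.steps_b hj⟩

theorem rep2_ok : RepOK Rep2.data :=
  ⟨Rep2.gens_ok, Rep2.roots_ok, fun _ hj => split_check Rep2.steps_a Rep2.steps_b hj⟩

theorem rep3_ok : RepOK Rep3.data :=
  ⟨Rep3.gens_ok, Rep3.roots_ok, fun _ hj => split_check Rep3.steps_a Rep3.steps_b hj⟩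

/-- A sum over the list by classes. -/
theorem sum_clsOf (f : ℕ → ℕ) : ∀ {n : ℕ}, n = 6304 → ∑ i ∈ Finset.range n, f (clsOf i) =
    1155 * f 0 + 990 * f 1 + (4158 * f 2 + f 3) := by
  intro n hn
  have blt_t : ∀ {a b : ℕ}, a < b → Nat.blt a b = true := fun h => by rw [Nat.blt_eq]; exact h
  have blt_f : ∀ {a b : ℕ}, b ≤ a → Nat.blt a b = false := fun h => by
    rw [Bool.eq_false_iff, ne_eq, Nat.blt_eq]; omega
  have c0 : ∀ i ∈ Finset.range 1155, f (clsOf i) = f 0 := fun i hi => by
    rw [Finset.mem_range] at hi; rw [clsOf, blt_t hi]; rfl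
  have c1 : ∀ i ∈ Finset.range 990, f (clsOf (1155 + i)) = f 1 := fun i hi => by
    rw [Finset.mem_range] at hi
    rw [clsOf, blt_f (by omega), blt_t (show 1155 + i < 2145 by omega)]; rfl
  have c2 : ∀ i ∈ Finset.range 4158, f (clsOf (1155 + 990 + i)) = f 2 := fun i hi => by
    rw [Finset.mem_range] at hi
    rw [clsOf, blt_f (by omega), blt_f (by omega), blt_t (show 1155 + 990 + i < 6303 by omega)]; rfl
  have c3 : f (clsOf (1155 + 990 + 4158 + 0)) = f 3 := by
    rw [clsOf, blt_f (by omega), blt_f (by omega), blt_f (by omega)]; rfl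
  rw [show n = 1155 + 990 + 4158 + 1 by omega, Finset.sum_range_add, Finset.sum_range_add,
    Finset.sum_range_add, Finset.sum_congr rfl c0, Finset.sum_congr rfl c1, Finset.sum_congr rfl c2,
    Finset.sum_range_one, c3, Finset.sum_const, Finset.sum_const, Finset.sum_const, Finset.card_range,
    Finset.card_range, Finset.card_range, smul_eq_mul, smul_eq_mul, smul_eq_mul]
  omega

end CfsgLib.JankoFourOrder.Central

open scoped Classical

namespace CfsgLib.JankoFour

open Cfsg CfsgLib.ThreeTrans CfsgLib.JankoFourHexad CfsgLib.JankoFourOrder CfsgLib.JankoFourOrder.Central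
open CfsgLib.Sporadic (Rep forallLt forallLt_elim exists_M24_elt)

variable {G : Type*} [Group G] [Finite G]

namespace HexBase

variable {S : Setting G} {B : HexBase S}

theorem npairs_conj {g u : G} (hg : Commute g S.z) : B.npairs (g * u * g⁻¹) = B.npairs u := by
  refine (Nat.card_congr ((MulAut.conj g).toEquiv.subtypeEquiv fun v => ?_)).symm
  show _ ↔ IsConj B.duadRep (g * v * g⁻¹) ∧ S.z ∈ Subgroup.zpowers (g * u * g⁻¹ * (g * v * g⁻¹))
  rw [isConj_conj_right_iff, show g * u * g⁻¹ * (g * v * g⁻¹) = g * (u * v) * g⁻¹ by group, mem_zpowers_conj hg]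

variable [IsSimpleGroup G] (hG : ¬ IsMulCommutative G) (hJ : IsOfJankoFourType G)
include hG hJ

omit hG hJ in
theorem npairs_origin {u : G} {y a c : ℕ} (hu : IsConj S.z u) (hui : B.Img u y (repM c))
    (ha : a < 4096) (he : (a ^^^ y) ^^^ mMul (repM c) a = 0) (hc : repM c < 2 ^ 144) :
    ∃ u', IsConj S.z u' ∧ B.Img u' 0 (repM c) ∧ B.npairs u = B.npairs u' := by
  have hi := (B.img_q ha).conjugate hui hc (by rw [mId_mMul hc, mMul_mId hc])
  rw [mMul_id_vec hui.1, he] at hi
  exact ⟨_, (isConj_conj_right_iff _ _ _).2 hu, hi, (npairs_conj (B.q_comm a)).symm⟩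

omit hG hJ in
theorem repM_lt (c : ℕ) (hc : c < 3) : repM c < 2 ^ 144 := by
  have hr := forallLt_elim rep_el hc
  simp only [Bool.and_eq_true, Nat.beq_eq] at hr
  rw [← hr.1.2]; exact LT_lt _

theorem value_mixed (M : B.NVModel) (hcp : Complete B) {u : G} {y c : ℕ} {l : List (ℕ × ℕ)} (hc : c < 3)
    (hl : toOrigin c l = true) (hmem : (y, 3) ∈ repTable.getD c []) {R : RepData} (hR : RepOK R)
    (hx : R.x = 0) (hs : R.sig = repM c) (hu : IsConj S.z u) (hui : B.Img u y (repM c)) :
    B.npairs u = R.total := by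
  rw [toOrigin, List.all_eq_true] at hl
  have h := hl _ hmem
  simp only [Bool.or_eq_true, Bool.not_eq_true', List.any_eq_true, Bool.and_eq_true, Nat.blt_eq, Nat.beq_eq] at h
  rcases h with h | ⟨⟨y', a⟩, -, ⟨e1, ha⟩, e2⟩
  · simp at h
  · dsimp only at e1 ha e2
    subst e1
    obtain ⟨u', hu', hi', he⟩ := npairs_origin hu hui ha e2 (repM_lt c hc)
    rw [he]
    exact npairs_rep hG hJ M hcp hR hu' (by rw [hx, hs]; exact hi')

theorem value_inner (M : B.NVModel) (hcp : Complete B) {u : G} {y : ℕ}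
    (hmem : (y, 1) ∈ repTable.getD 0 []) (hu : IsConj S.z u) (hui : B.Img u y (repM 0)) :
    B.npairs u = 255776 := by
  obtain ⟨h1, h2⟩ := coset_ok
  rw [List.all_eq_true] at h1
  have h := h1 _ hmem
  simp only [Bool.or_eq_true, Bool.not_eq_true', List.any_eq_true, Bool.and_eq_true, Nat.blt_eq, Nat.beq_eq] at h
  rcases h with h | ⟨⟨y', a, k⟩, -, ⟨⟨e1, ha⟩, hk⟩, e2⟩
  · simp at h
  dsimp only at e1 ha hk e2
  subst e1
  have h3 := forallLt_elim h2 hk
  simp only [Bool.and_eq_true, List.all_eq_true, Nat.blt_eq, Nat.beq_eq] at h3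
  obtain ⟨hw, hcomm⟩ := h3
  set m := wordMat (cosetWord.getD k [])
  obtain ⟨W, hW, hWa⟩ := B.exists_word_acts hw
  have hg : B.Img (B.q a * W) a m := ⟨ha, W, S.norm_of_mem_C hW, hWa, Setting.Zm.refl _⟩
  have hgz := hg.commute B
  obtain ⟨b, hi, hgi⟩ := B.img_exists hgz.inv_left
  have h0 : mMul hi m = mId :=
    ((hgi.mul B hg).unique B (by rw [inv_mul_cancel]; exact B.img_one)).2
  have hr := repM_lt 0 (by norm_num)
  have h0' : mMul m hi = mId :=
    ((hg.mul B hgi).unique B (by rw [mul_inv_cancel]; exact B.img_one)).2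
  have he : mMul hi (repM 0) = mMul (repM 0) hi := by
    calc mMul hi (repM 0) = mMul hi (mMul (repM 0) (mMul m hi)) := by rw [h0', mMul_mId hr]
      _ = mMul hi (mMul (mMul m (repM 0)) hi) := by rw [← mMul_assoc (repM 0), hcomm]
      _ = mMul (mMul (mMul hi m) (repM 0)) hi := by simp only [mMul_assoc]
      _ = _ := by rw [h0, mId_mMul hr]
  set u' := (B.q a * W)⁻¹ * u * (B.q a * W)⁻¹⁻¹ with hu'def
  have hi' := hgi.conjugate hui hr he
  rw [← hu'def] at hi'
  set x := b ^^^ mMul hi y' ^^^ mMul (repM 0) b with hxdef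
  have hback := hg.conjugate hi' hr hcomm
  rw [show B.q a * W * u' * (B.q a * W)⁻¹ = u by rw [hu'def]; group] at hback
  have hy := (hui.unique B hback).1
  have hx : x = innerX := by
    have hmx : mMul m x = mMul m innerX := by
      have e3 : a ^^^ mMul m innerX ^^^ mMul (repM 0) a = a ^^^ mMul m x ^^^ mMul (repM 0) a := e2.trans hy
      exact Nat.xor_right_inj.1 (Nat.xor_left_inj.1 e3.symm)
    have := congrArg (mMul hi) hmx
    rwa [← mMul_assoc_vec hi m hi'.1, ← mMul_assoc_vec hi m (by rw [roots_eq.2]; norm_num), h0,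
      mMul_id_vec hi'.1, mMul_id_vec (by rw [roots_eq.2]; norm_num)] at this
  rw [hx, roots_eq.2] at hi'
  rw [← npairs_conj (B := B) (g := (B.q a * W)⁻¹) hgz.inv_left]
  exact (npairs_rep hG hJ M hcp rep2_ok ((isConj_conj_right_iff _ _ _).2 hu) hi').trans Rep2.total_eq

theorem value_singular (M : B.NVModel) (hcp : Complete B) : ∀ {i : ℕ}, i < 693 →
    ∀ u, IsConj S.z u → B.Img u (eVec i) mId → B.npairs u = 257408 := by
  intro i
  induction i using Nat.strong_induction_on with
  | _ i ih =>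
    intro hi u hu hui
    have he := forallLt_elim e_tree (show i < 2079 by omega)
    rw [eOK] at he
    split_ifs at he with hroot
    · have hr : i = 0 ∨ i = 693 := by simpa [Bool.or_eq_true, Nat.beq_eq] using hroot
      obtain rfl : i = 0 := by omega
      rw [roots_eq.1] at hui
      exact (npairs_rep hG hJ M hcp rep0_ok hu hui).trans Rep0.total_eq
    · simp only [Bool.and_eq_true, Nat.blt_eq, Nat.beq_eq, beq_iff_eq] at he
      set p := Nat.land (Nat.shiftRight (eAt i) 12) 4095
      obtain ⟨⟨hp, -⟩, hm⟩ := he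
      have hg2 : Nat.shiftRight (eAt i) 24 < 2 := by
        show eAt i >>> 24 < 2
        rw [Nat.shiftRight_eq_div_pow]
        have : eAt i ≤ 33554431 := Nat.and_le_right
        omega
      obtain ⟨W, hW, hWa⟩ := B.exists_word_acts (w := [Nat.shiftRight (eAt i) 24])
        (fun x hx => by rw [List.mem_singleton] at hx; omega)
      rw [wordMat_cons, wordMat_nil, mMul_mId] at hWa
      swap
      · have := forallLt_elim gen_ok hg2
        simp only [Bool.and_eq_true, Nat.blt_eq] at this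
        exact this.1.1.1.1.2
      have hWz : Commute W S.z := Frame.commute_z hW
      have hpy : eVec p < 4096 := Nat.lt_succ_of_le Nat.and_le_right
      have e1 : S.Zm (W * B.q (eVec p) * W⁻¹) (B.q (eVec i)) := by rw [← hm]; exact hWa.2 _ hpy
      have e2 := ((B.img_mId_iff hui).trans e1.symm).conj hWz.inv_left
      rw [inv_inv, show W⁻¹ * (W * B.q (eVec p) * W⁻¹) * W = B.q (eVec p) by group] at e2
      have := ih p hp (by omega) _ ((isConj_conj_right_iff _ W⁻¹ u).2 hu)
        (by rw [inv_inv]; exact (B.img_q hpy).congr B e2)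
      rwa [npairs_conj hWz.inv_left] at this

theorem npairs_z : B.npairs S.z = 0 := by
  rw [npairs, Nat.card_eq_zero]
  refine Or.inl ⟨fun ⟨v, hv, hz⟩ => ?_⟩
  obtain ⟨h2, h1⟩ := invol_of_conj_t hG hJ hv
  have hvz : Commute v S.z := by
    obtain ⟨j, hj⟩ := hz
    simp only at hj
    have : Commute (S.z * v) S.z := by
      have hh := (Commute.refl (S.z * v)).zpow_right j
      rwa [hj] at hh
    have h3 := (Commute.refl S.z).inv_left.mul_left this
    rwa [inv_mul_cancel_left] at h3
  have hsq : (S.z * v) * (S.z * v) = 1 := by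
    rw [show S.z * v * (S.z * v) = S.z * (v * S.z) * v by group, hvz.eq,
      show S.z * (S.z * v) * v = (S.z * S.z) * (v * v) by group, S.hE.mul_self_z, h2, one_mul]
  rw [← mem_powers_iff_mem_zpowers] at hz
  obtain ⟨j, hj⟩ := hz
  simp only at hj
  rcases Nat.even_or_odd j with ⟨l, hl⟩ | ⟨l, hl⟩
  · rw [hl, pow_add, ← (Commute.refl (S.z * v)).mul_pow, hsq, one_pow] at hj
    exact S.hE.z_ne_one hj.symm
  · rw [hl, pow_succ, two_mul, pow_add, ← (Commute.refl (S.z * v)).mul_pow, hsq, one_pow, one_mul] at hj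
    exact h1 (mul_left_cancel (hj.trans (mul_one _).symm))

theorem z_card (M : B.NVModel) {c : ℕ} {e : ℕ × ℕ} (hc : c < 3) (he : e ∈ repTable.getD c []) :
    Nat.card {h // IsConj S.z h ∧ B.Img h e.1 (repM c)} = zWeight e.2 := by
  classical
  obtain ⟨hy, hf, hF⟩ := table_prop hG hJ M hc he
  have hr := forallLt_elim rep_el hc
  simp only [Bool.and_eq_true] at hr
  have hj' := hr.1.1
  simp only [jCheck, normPerm, Bool.and_eq_true] at hj'
  obtain ⟨σ, hσ⟩ := exists_M24_elt hj'.1.1.1.2.1.1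
  obtain ⟨hn, ha⟩ := M.jCheck_spec hr.1.1 hσ
  set g := B.q e.1 * (B.vel (repEl.getD c (0, 0)).1 * M.k σ)
  have hgi : B.Img g e.1 (repM c) := ⟨hy, _, hn, ha, Setting.Zm.refl _⟩
  have hzi : B.Img (S.z * g) e.1 (repM c) := hgi.congr B (Or.inr rfl)
  rw [card_pair g fun h hh => B.zm_of_img hh.2 hgi]
  obtain ⟨a0, a1, a2, a3, a4⟩ := hF g hgi
  obtain ⟨b0, b1, b2, b3, -⟩ := hF _ hzi
  simp only [hgi, hzi, and_true]
  obtain ⟨y, f⟩ := e
  dsimp only at hf a0 a1 a2 a3 a4 b0 b1 b2 b3 ⊢
  interval_cases f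
  · have nz : ∀ {x : G}, x * x = S.z → ¬ IsConj S.z x := fun {x} hx hz => by
      obtain ⟨q, rfl⟩ := isConj_iff.1 hz
      rw [show q * S.z * q⁻¹ * (q * S.z * q⁻¹) = q * (S.z * S.z) * q⁻¹ by group, S.hE.mul_self_z] at hx
      exact S.hE.z_ne_one (by simpa using hx.symm)
    rw [if_neg (nz (a0 rfl)), if_neg (nz (b0 rfl))]; rfl
  · rw [if_pos (a2 rfl), if_pos (b2 rfl)]; rfl
  · rw [if_neg (a3 rfl), if_neg (b3 rfl)]; rfl
  · by_cases hz : IsConj S.z g
    · rw [if_pos hz, if_neg ((a4 rfl).1 hz)]; rfl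
    · rw [if_neg hz, if_pos (by_contra fun hn => hz ((a4 rfl).2 hn))]; rfl

omit hG hJ in
/-- A sum over the elements over a list of vectors. -/
theorem sum_list [Fintype G] {m : ℕ} {P : G → Prop}
    {f : G → ℕ} : ∀ {L : List (ℕ × ℕ × ℕ)}, (L.map Prod.fst).Nodup →
    (∀ e ∈ L, Nat.card {h // P h ∧ B.Img h e.1 m} = e.2.1) →
    (∀ e ∈ L, ∀ h, P h → B.Img h e.1 m → f h = e.2.2) →
    (∑ h ∈ Finset.univ.filter (fun h => P h ∧ ∃ e ∈ L, B.Img h e.1 m), f h) =
      L.foldr (fun e s => Nat.add (Nat.mul e.2.1 e.2.2) s) 0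
  | [], _, _, _ => by simp
  | a :: L, hn, hc, hf => by
    rw [List.map_cons, List.nodup_cons] at hn
    have ih := sum_list (f := f) hn.2 (fun e he => hc e (List.mem_cons_of_mem _ he))
      (fun e he => hf e (List.mem_cons_of_mem _ he))
    rw [List.foldr_cons, ← ih]
    show _ = a.2.1 * a.2.2 + _
    have hsplit : (Finset.univ.filter fun h => P h ∧ ∃ e ∈ a :: L, B.Img h e.1 m) =
        (Finset.univ.filter fun h => P h ∧ B.Img h a.1 m) ∪
          Finset.univ.filter fun h => P h ∧ ∃ e ∈ L, B.Img h e.1 m := by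
      ext h; simp [or_and_right, exists_or, and_or_left]
    have hdis : Disjoint (Finset.univ.filter fun h => P h ∧ B.Img h a.1 m)
        (Finset.univ.filter fun h => P h ∧ ∃ e ∈ L, B.Img h e.1 m) := by
      rw [Finset.disjoint_filter]
      rintro h - ⟨-, h1⟩ ⟨-, e, he, h2⟩
      exact hn.1 (List.mem_map.2 ⟨e, he, (h2.unique B h1).1⟩)
    rw [hsplit, Finset.sum_union hdis]
    congr 1
    have ha := hc a (List.mem_cons_self ..)
    rw [Nat.card_eq_fintype_card, Fintype.card_subtype] at ha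
    rw [Finset.sum_congr rfl fun h hh =>
      hf a (List.mem_cons_self ..) h (Finset.mem_filter.1 hh).2.1 (Finset.mem_filter.1 hh).2.2,
      Finset.sum_const, smul_eq_mul, ha]

set_option maxHeartbeats 400000 in
/-- The pairs over a representative. -/
theorem sum_class [Fintype G] (M : B.NVModel) (hcp : Complete B) {c : ℕ} (hc : c ≤ 3) :
    (∑ u ∈ Finset.univ.filter (fun u => IsConj S.z u ∧ B.Mat u (repM c)), B.npairs u) = zSum c := by
  have hz2 : ∀ {u : G}, IsConj S.z u → u * u = 1 := fun {u} hu => by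
    rw [← pow_two, ← S.orderOf_z, ← CfsgLib.Signalizer.orderOf_of_isConj hu, pow_orderOf_eq_one]
  have key : ∀ u, IsConj S.z u → (B.Mat u (repM c) ↔ ∃ e ∈ zEntries c, B.Img u e.1 (repM c)) := by
    intro u hu
    refine ⟨fun ⟨y, hy⟩ => ?_, fun ⟨e, _, he⟩ => ⟨_, he⟩⟩
    rcases Nat.lt_or_ge c 3 with h3 | h3
    · obtain ⟨f, hf⟩ := table_mem hG hJ h3 hy (Or.inl (hz2 hu))
      refine ⟨(y, zWeight f, zVal c f), ?_, hy⟩
      rw [zEntries, if_neg (by omega)]
      exact List.mem_map.2 ⟨_, hf, rfl⟩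
    · obtain rfl : c = 3 := le_antisymm hc h3
      rw [repM_three] at hy ⊢
      rw [zEntries, if_pos rfl]
      rcases id_cases hG hJ hy (hz2 hu) with rfl | hb | hb
      · exact ⟨_, List.mem_cons_self .., hy⟩
      · rw [← lists_ok.2.2.1] at hb
        rcases fold_mask id zList 0 y hb with h0 | ⟨e, he, rfl⟩
        · simp at h0
        · exact ⟨(e, 2, 257408), List.mem_cons_of_mem _ (List.mem_map.2 ⟨e, he, rfl⟩), hy⟩
      · exact absurd hu ((t_vector hG hJ M hb).2.2 u hy).2.2
  have hmain : ∀ L : List (ℕ × ℕ × ℕ), (L.map Prod.fst).Nodup →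
      (∀ e ∈ L, Nat.card {h // IsConj S.z h ∧ B.Img h e.1 (repM c)} = e.2.1) →
      (∀ e ∈ L, ∀ h, IsConj S.z h → B.Img h e.1 (repM c) → B.npairs h = e.2.2) →
      (∀ u, IsConj S.z u → (B.Mat u (repM c) ↔ ∃ e ∈ L, B.Img u e.1 (repM c))) →
      (∑ u ∈ Finset.univ.filter (fun u => IsConj S.z u ∧ B.Mat u (repM c)), B.npairs u) =
        L.foldr (fun e s => Nat.add (Nat.mul e.2.1 e.2.2) s) 0 := by
    intro L ha hb hd he
    rw [← sum_list (f := B.npairs) (P := IsConj S.z) (m := repM c) ha hb hd]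
    refine Finset.sum_congr ?_ fun _ _ => rfl
    ext u
    simp only [Finset.mem_filter, Finset.mem_univ, true_and]
    exact and_congr_right (he u)
  rw [zSum]
  rcases Nat.lt_or_ge c 3 with h3 | h3
  · have hE : zEntries c = (repTable.getD c []).map fun e => (e.1, zWeight e.2, zVal c e.2) := by
      rw [zEntries, if_neg (by omega)]
    refine hmain (zEntries c) ?_ ?_ ?_ key
    · have h := forallLt_elim table_ok h3
      rw [Bool.and_eq_true] at h
      rw [hE, List.map_map]
      exact nodup_of_increasing h.2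
    · rw [hE]; intro e he
      obtain ⟨⟨y, f⟩, hf, rfl⟩ := List.mem_map.1 he
      exact z_card hG hJ M h3 hf
    · rw [hE]; intro e he u hu hui
      obtain ⟨⟨y, f⟩, hf, rfl⟩ := List.mem_map.1 he
      dsimp only at hui ⊢
      obtain ⟨-, -, hF⟩ := table_prop hG hJ M h3 hf
      obtain ⟨f0, -, -, f2, -⟩ := hF u hui
      have hne0 : f ≠ 0 := fun e => S.hE.z_ne_one ((f0 e).symm.trans (hz2 hu))
      have hne2 : f ≠ 2 := fun e => f2 e hu
      obtain ⟨k0, k1, k2⟩ := flags_ok
      rw [List.all_eq_true] at k0 k1 k2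
      interval_cases c
      · have hf4 := k0 _ hf
        rw [Nat.blt_eq] at hf4
        rcases (show f = 1 ∨ f = 3 by dsimp only at hf4; omega) with rfl | rfl
        · exact value_inner hG hJ M hcp hf hu hui
        · exact (value_mixed hG hJ M hcp h3 origin_ok.1 hf rep1_ok rfl rfl hu hui).trans Rep1.total_eq
      · obtain rfl : f = 3 := Nat.eq_of_beq_eq_true (k1 _ hf)
        exact (value_mixed hG hJ M hcp h3 origin_ok.2 hf rep3_ok rfl rfl hu hui).trans Rep3.total_eq
      · exact absurd (Nat.eq_of_beq_eq_true (k2 _ hf)) hne2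
  · obtain rfl : c = 3 := le_antisymm hc h3
    obtain ⟨hz, -, hzm, -, hall, -⟩ := lists_ok
    have hE : zEntries 3 = (0, 1, 0) :: zList.map fun y => (y, 2, 257408) := by rw [zEntries, if_pos rfl]
    have hzl : ∀ y ∈ zList, Nat.testBit zMask y = true := fun y hy => by
      rw [← hzm]; exact mask_fold id _ _ _ (Or.inr ⟨y, hy, rfl⟩)
    have hq0 : ∀ {h : G}, IsConj S.z h → B.Img h 0 mId → h = S.z := fun {h} hh hi => by
      have := B.img_mId_iff hi
      rw [B.q_zero] at this
      rcases this with e | e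
      · subst e
        obtain ⟨q, hq⟩ := isConj_iff.1 hh
        exact absurd (conj_eq_one_iff.1 hq) S.hE.z_ne_one
      · rw [e, mul_one]
    refine hmain (zEntries 3) ?_ ?_ ?_ key
    · rw [hE, List.map_cons, List.map_map, List.nodup_cons]
      refine ⟨fun hm => ?_, by simpa [Function.comp_def] using nodup_of_increasing hz⟩
      obtain ⟨y, hy, hy0⟩ := List.mem_map.1 hm
      exact (z_vector hG hJ M (hzl y hy)).2.1 hy0
    · rw [hE, repM_three]; intro e he
      rcases List.mem_cons.1 he with rfl | he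
      · rw [Nat.card_eq_one_iff_exists]
        exact ⟨⟨S.z, IsConj.refl _, B.img_one.congr B (Or.inr (mul_one _).symm)⟩,
          fun ⟨h, hh, hi⟩ => Subtype.ext (hq0 hh hi)⟩
      · obtain ⟨y, hy, rfl⟩ := List.mem_map.1 he
        obtain ⟨hy4, -, hK⟩ := z_vector hG hJ M (hzl y hy)
        dsimp only
        have hgi : B.Img (B.q y) y mId := B.img_q hy4
        have hzi : B.Img (S.z * B.q y) y mId := hgi.congr B (Or.inr rfl)
        rw [card_pair (B.q y) fun h hh => B.zm_of_img hh.2 hgi,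
          if_pos ⟨(hK _ hgi).2.2, hgi⟩, if_pos ⟨(hK _ hzi).2.2, hzi⟩]
    · rw [hE, repM_three]; intro e he u hu hui
      rcases List.mem_cons.1 he with rfl | he
      · rw [hq0 hu hui]; exact npairs_z hG hJ
      · obtain ⟨y, hy, rfl⟩ := List.mem_map.1 he
        dsimp only at hui ⊢
        have hb := hzl y hy
        rw [← e_masks.1] at hb
        obtain ⟨i, hi, rfl⟩ := eMask_bit 0 693 y hb
        rw [Nat.zero_add] at hui
        exact value_singular hG hJ M hcp hi u hu hui

/-- The pairs over a listed matrix. -/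
theorem sum_fibre [Fintype G] (M : B.NVModel) (hcp : Complete B) {i : ℕ} (hi : i < 6304) :
    (∑ u ∈ Finset.univ.filter (fun u => IsConj S.z u ∧ B.Mat u (Central.LT i)), B.npairs u) =
      zSum (clsOf i) := by
  rw [← sum_class hG hJ M hcp (clsOf_le i)]
  obtain ⟨w, hw, hcl⟩ := class_word hi
  obtain ⟨W, hW, hWa⟩ := B.exists_word_acts hw
  have hWz : Commute W S.z := Frame.commute_z hW
  have hWm := B.mat_of_acts (S.norm_of_mem_C hW) hWa
  have hr : repM (clsOf i) < 2 ^ 144 := by
    rcases Nat.lt_or_ge (clsOf i) 3 with h3 | h3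
    · exact repM_lt _ h3
    · rw [show clsOf i = 3 by have := clsOf_le i; omega]; exact mId_lt
  refine (Finset.sum_equiv (MulAut.conj W).toEquiv (fun u => ?_) fun u _ => (npairs_conj hWz).symm).symm
  simp only [Finset.mem_filter, Finset.mem_univ, true_and]
  show _ ↔ IsConj S.z (W * u * W⁻¹) ∧ B.Mat (W * u * W⁻¹) (Central.LT i)
  rw [isConj_conj_right_iff]
  refine and_congr_right fun _ => ⟨fun h => hWm.conj B h (LT_lt i) hcl.symm, fun h => ?_⟩
  obtain ⟨hi', hgi⟩ := B.mat_exists hWz.inv_left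
  have h1 : mMul hi' (wordMat w) = mId := (hgi.mul B hWm).unique B (by rw [inv_mul_cancel]; exact B.mat_one)
  have h2 := (hgi.mul B h).mul B hWm
  rwa [show W⁻¹ * (W * u * W⁻¹) * W = u by group, mMul_assoc, hcl, ← mMul_assoc, h1, mId_mMul hr] at h2

/-- **The count, given completeness.** -/
theorem central_pair_count_of_complete (M : B.NVModel) (hcp : Complete B) : B.CentralPairCount := by
  classical
  haveI := Fintype.ofFinite G
  unfold CentralPairCount
  let e : CfsgLib.Signalizer.ClassPairs S.z B.duadRep S.z ≃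
      Σ u : {u : G // IsConj S.z u}, {v // IsConj B.duadRep v ∧ S.z ∈ Subgroup.zpowers ((u : G) * v)} :=
    { toFun := fun p => ⟨⟨p.1.1, p.2.1⟩, ⟨p.1.2, p.2.2.1, p.2.2.2⟩⟩
      invFun := fun s => ⟨(s.1.1, s.2.1), s.1.2, s.2.2.1, s.2.2.2⟩
      left_inv := fun _ => rfl
      right_inv := fun _ => rfl }
  have h1 : Nat.card (CfsgLib.Signalizer.ClassPairs S.z B.duadRep S.z) =
      ∑ u ∈ Finset.univ.filter (fun u => IsConj S.z u), B.npairs u := by
    rw [Nat.card_congr e, Nat.card_sigma, Finset.sum_subtype (p := fun u => IsConj S.z u) _ (fun x => by simp)]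
    rfl
  have h2 : (∑ u ∈ Finset.univ.filter (fun u => IsConj S.z u), B.npairs u) =
      ∑ u ∈ (Finset.range 6304).biUnion (fun i => Finset.univ.filter fun u =>
        IsConj S.z u ∧ B.Mat u (Central.LT i)), B.npairs u := by
    refine (Finset.sum_subset (fun u hu => ?_) fun u hu hn => ?_).symm
    · simp only [Finset.mem_biUnion, Finset.mem_filter, Finset.mem_univ, true_and] at hu ⊢
      obtain ⟨i, -, hu, -⟩ := hu
      exact hu
    · simp only [Finset.mem_biUnion, Finset.mem_range, Finset.mem_filter, Finset.mem_univ, true_and] at hu hn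
      rw [npairs, Nat.card_eq_zero]
      refine Or.inl ⟨fun ⟨v, hv, hz⟩ => hn ?_⟩
      obtain ⟨hu2, hv2, hnc⟩ := facts_pair hG hJ hu hv
      have huz : Commute u S.z := by
        obtain ⟨j, hj⟩ := hz
        simp only at hj
        have hinv : u * (u * v) * u⁻¹ = (u * v)⁻¹ := by
          have a2 : u * u = 1 := by rw [← pow_two, ← hu2, pow_orderOf_eq_one]
          have b2 : v * v = 1 := by rw [← pow_two, ← hv2, pow_orderOf_eq_one]
          rw [inv_eq_of_mul_eq_one_right a2, mul_inv_rev, inv_eq_of_mul_eq_one_right a2,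
            inv_eq_of_mul_eq_one_right b2, ← mul_assoc u u v, a2, one_mul]
        have h3 : u * S.z * u⁻¹ = S.z := by
          rw [← hj, ← conj_zpow, hinv, inv_zpow, hj]
          exact inv_eq_of_mul_eq_one_right S.hE.mul_self_z
        exact mul_inv_eq_iff_eq_mul.1 h3
      obtain ⟨x, m, hi⟩ := B.img_exists huz
      have a2 : u * u = 1 := by rw [← pow_two, ← hu2, pow_orderOf_eq_one]
      have hm := ((hi.mul B hi).unique B (B.img_one.congr B (Or.inl a2))).2
      obtain ⟨hx, n, hn', ha, hun⟩ := hi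
      obtain ⟨i, hi6, rfl⟩ := hcp n m hn' ha hm
      exact ⟨i, hi6, hu, x, hx, n, hn', ha, hun⟩
  rw [h1, h2, Finset.sum_biUnion]
  swap
  · intro i hi j hj hij
    rw [Function.onFun, Finset.disjoint_filter]
    intro u _ a b
    rw [Finset.mem_coe, Finset.mem_range] at hi hj
    exact hij (LT_inj hi hj (a.2.unique B b.2))
  rw [Finset.sum_congr rfl fun i hi => sum_fibre hG hJ M hcp (Finset.mem_range.1 hi)]
  rw [sum_clsOf zSum rfl, ← zSum_total]
  simp only [Nat.add_eq, Nat.mul_eq]

end HexBase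

end CfsgLib.JankoFour
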