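import Cfsg.Agent.Lib.JankoFourOrder.Central.Classes

/-!
# The number of partners of an involution over a representative (owner: helper17)
-/

set_option autoImplicit false
set_option linter.unusedSectionVars false
set_option maxRecDepth 100000

namespace CfsgLib.JankoFourOrder.Central

open CfsgLib.Sporadic (forallLt forallLt_elim)

theorem four_ok : forallLt 3 (fun c => (repTable.getD c []).all fun e =>
    isFour c e.1 == Nat.beq e.2 0) = true := by decide +kernel

/-- All checks of a representative. -/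
structure RepOK (R : RepData) : Prop where
  gens : R.gensOK = true
  roots : R.roots.all R.rootOK = true
  steps : ∀ j < 6304, R.stepOK j = true

theorem clsOf_le (i : ℕ) : clsOf i ≤ 3 := by
  unfold clsOf
  cases Nat.blt i 1155 <;> cases Nat.blt i 2145 <;> cases Nat.blt i 6303 <;> simp

theorem clsOf_lt {i : ℕ} (hi : i < 6303) : clsOf i < 3 := by
  unfold clsOf
  rw [show Nat.blt i 6303 = true by rw [Nat.blt_eq]; exact hi]
  cases Nat.blt i 1155 <;> cases Nat.blt i 2145 <;> simp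

theorem seq_bijective {R : RepData} (hR : RepOK R) :
    ∃ f : Fin 6304 → Fin 6304, Function.Bijective f ∧ ∀ j, (f j : ℕ) = R.seqAt j := by
  have hs : ∀ j : Fin 6304, R.seqAt j < 6304 ∧ arr13 R.pos j < 6304 ∧ R.seqAt (arr13 R.pos j) = j := fun j => by
    have h := hR.steps j j.2
    simp only [RepData.stepOK, Bool.and_eq_true, Nat.blt_eq, Nat.beq_eq] at h
    exact ⟨h.1.1.1.1, h.1.1.1.2, h.1.1.2⟩
  refine ⟨fun j => ⟨R.seqAt j, (hs j).1⟩, ?_, fun j => rfl⟩
  exact Finite.surjective_iff_bijective.1 fun i => ⟨⟨arr13 R.pos i, (hs i).2.1⟩, Fin.ext (hs i).2.2⟩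

theorem total_eq_sum (R : RepData) : R.total = ∑ j ∈ Finset.range 6304,
    (R.roots.getD (R.rootAt j) (0, [], 0, 0, [], 0, 0)).2.2.2.2.2.2 := by
  have key : ∀ n : ℕ, Nat.rec (motive := fun _ => ℕ) 0
      (fun j s => Nat.add (R.roots.getD (R.rootAt j) (0, [], 0, 0, [], 0, 0)).2.2.2.2.2.2 s) n =
      ∑ j ∈ Finset.range n, (R.roots.getD (R.rootAt j) (0, [], 0, 0, [], 0, 0)).2.2.2.2.2.2 := by
    intro n
    induction n with
    | zero => rfl
    | succ n ih => rw [Finset.sum_range_succ, ← ih]; exact Nat.add_comm _ _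
  exact key 6304

end CfsgLib.JankoFourOrder.Central

namespace CfsgLib.JankoFour

open Cfsg CfsgLib.ThreeTrans CfsgLib.JankoFourHexad CfsgLib.JankoFourOrder CfsgLib.JankoFourOrder.Central
open CfsgLib.Sporadic (Rep forallLt forallLt_elim exists_M24_elt)

variable {G : Type*} [Group G] [Finite G]

namespace HexBase

variable {S : Setting G} {B : HexBase S}

/-- Every involution matrix of `N_H(P)` is listed. -/
def Complete (B : HexBase S) : Prop :=
  ∀ (n : G) (m : ℕ), S.Norm n → B.Acts n m → mMul m m = mId → ∃ i < 6304, Central.LT i = m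

/-- `z` is a power of `g` or of `z g`. -/
def GoodPair (B : HexBase S) (g : G) : Prop :=
  S.z ∈ Subgroup.zpowers g ∨ S.z ∈ Subgroup.zpowers (S.z * g)

/-- Partners of `u` of the second class with matrix `LT i`. -/
noncomputable def zCnt (B : HexBase S) (u : G) (i : ℕ) : ℕ :=
  Nat.card {v // IsConj B.duadRep v ∧ B.Mat v (Central.LT i) ∧ B.GoodPair (u * v)}

/-- Partners of `u`. -/
noncomputable def npairs (B : HexBase S) (u : G) : ℕ :=
  Nat.card {v // IsConj B.duadRep v ∧ S.z ∈ Subgroup.zpowers (u * v)}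

theorem isConj_conj_right_iff (t g v : G) : IsConj t (g * v * g⁻¹) ↔ IsConj t v :=
  ⟨fun h => h.trans (isConj_iff.2 ⟨g⁻¹, by group⟩), fun h => h.trans (isConj_iff.2 ⟨g, rfl⟩)⟩

theorem mem_zpowers_conj {g : G} (hg : Commute g S.z) (a : G) :
    S.z ∈ Subgroup.zpowers (g * a * g⁻¹) ↔ S.z ∈ Subgroup.zpowers a := by
  have hz : g * S.z * g⁻¹ = S.z := by rw [hg.eq, mul_inv_cancel_right]
  constructor
  · rintro ⟨j, hj⟩
    refine ⟨j, ?_⟩
    simp only at hj ⊢
    rw [conj_zpow] at hj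
    rw [← hz] at hj
    exact mul_left_cancel (mul_right_cancel hj)
  · rintro ⟨j, hj⟩
    exact ⟨j, by simp only at hj ⊢; rw [conj_zpow, hj, hz]⟩

theorem good_conj {g : G} (hg : Commute g S.z) (a : G) : B.GoodPair (g * a * g⁻¹) ↔ B.GoodPair a := by
  unfold GoodPair
  rw [mem_zpowers_conj hg, show S.z * (g * a * g⁻¹) = g * (S.z * a) * g⁻¹ by
    rw [← mul_assoc, ← mul_assoc, ← mul_assoc, hg.eq], mem_zpowers_conj hg]

theorem good_z (a : G) : B.GoodPair (S.z * a) ↔ B.GoodPair a := by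
  unfold GoodPair
  rw [z_mul_z_mul, or_comm]

/-- Image of a conjugate. -/
theorem Img.conjugate {g v : G} {a h y τ τ' : ℕ} (hg : B.Img g a h) (hv : B.Img v y τ) (hτ : τ' < 2 ^ 144)
    (e : mMul h τ = mMul τ' h) : B.Img (g * v * g⁻¹) (a ^^^ mMul h y ^^^ mMul τ' a) τ' := by
  obtain ⟨b, hi, hgi⟩ := B.img_exists (hg.commute B).inv_left
  have h0 := (hg.mul B hgi).congr B (u' := 1) (Or.inl (mul_inv_cancel g).symm)
  obtain ⟨h1, h2⟩ := h0.unique B B.img_one
  have hb : mMul h b = a := (Nat.xor_eq_zero_iff.1 h1).symm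
  have := (hg.mul B hv).mul B hgi
  rwa [e, mMul_assoc_vec τ' h hgi.1, hb, mMul_assoc, h2, mMul_mId hτ] at this

theorem zCnt_z (u : G) (i : ℕ) : B.zCnt (S.z * u) i = B.zCnt u i :=
  Nat.card_congr (Equiv.subtypeEquivRight fun v => by rw [mul_assoc, good_z])

theorem zCnt_zm {u u' : G} (h : S.Zm u' u) (i : ℕ) : B.zCnt u' i = B.zCnt u i := by
  rcases h with rfl | rfl
  exacts [rfl, zCnt_z u i]

/-- Conjugation permutes the partners. -/
theorem zCnt_conj {g u : G} {H i j : ℕ} (hg : B.Mat g H)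
    (e : mMul H (Central.LT i) = mMul (Central.LT j) H) : B.zCnt (g * u * g⁻¹) j = B.zCnt u i := by
  refine (Nat.card_congr ((MulAut.conj g).toEquiv.subtypeEquiv fun v => ?_)).symm
  show _ ↔ IsConj B.duadRep (g * v * g⁻¹) ∧ B.Mat (g * v * g⁻¹) (Central.LT j) ∧
    B.GoodPair (g * u * g⁻¹ * (g * v * g⁻¹))
  rw [isConj_conj_right_iff, show g * u * g⁻¹ * (g * v * g⁻¹) = g * (u * v) * g⁻¹ by group,
    good_conj (hg.commute B)]
  refine and_congr_right fun _ => and_congr_left fun _ => ⟨fun hv => hg.conj B hv (LT_lt j) e, fun hv => ?_⟩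
  obtain ⟨hi', hgi⟩ := B.mat_exists (hg.commute B).inv_left
  have h1 : mMul hi' H = mId := (hgi.mul B hg).unique B (by rw [inv_mul_cancel]; exact B.mat_one)
  have h2 := (hgi.mul B hv).mul B hg
  rw [show g⁻¹ * (g * v * g⁻¹) * g = v by group, mMul_assoc, ← e, ← mMul_assoc, h1, mId_mMul (LT_lt i)] at h2
  exact h2

variable [IsSimpleGroup G] (hG : ¬ IsMulCommutative G) (hJ : IsOfJankoFourType G)
include hG hJ

theorem facts_pair {u v : G} (hu : IsConj S.z u) (hv : IsConj B.duadRep v) :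
    orderOf u = 2 ∧ orderOf v = 2 ∧ ¬ IsConj u v := by
  refine ⟨(CfsgLib.Signalizer.orderOf_of_isConj hu).trans S.orderOf_z, ?_, fun h => ?_⟩
  · obtain ⟨h2, h1⟩ := invol_of_conj_t hG hJ hv
    exact CfsgLib.Signalizer.orderOf_eq_two_of h1 h2
  · exact (B.duadRep_facts hG hJ).2 (hu.trans (h.trans hv.symm))

theorem good_iff {u v : G} (hu : IsConj S.z u) (hv : IsConj B.duadRep v) (hz : Commute (u * v) S.z) :
    B.GoodPair (u * v) ↔ S.z ∈ Subgroup.zpowers (u * v) := by
  refine ⟨fun h => h.elim id fun h' => ?_, Or.inl⟩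
  obtain ⟨hu2, hv2, hnc⟩ := facts_pair hG hJ hu hv
  rw [← mem_powers_iff_mem_zpowers] at h'
  obtain ⟨j, hj⟩ := h'
  simp only at hj
  rw [hz.symm.mul_pow] at hj
  rcases Nat.even_or_odd j with ⟨l, hl⟩ | ⟨l, hl⟩
  · rw [hl, pow_add S.z, ← (Commute.refl S.z).mul_pow, S.hE.mul_self_z, one_pow, one_mul] at hj
    exact hj ▸ pow_mem (Subgroup.mem_zpowers _) _
  · exfalso
    rw [hl, pow_succ S.z, two_mul, pow_add S.z, ← (Commute.refl S.z).mul_pow, S.hE.mul_self_z, one_pow,
      one_mul] at hj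
    have h1 : (u * v) ^ (2 * l + 1) = 1 := by
      rw [two_mul]; exact mul_left_cancel (hj.trans (mul_one _).symm)
    obtain ⟨d, -, hd⟩ := CfsgLib.Signalizer.exists_conj_of_odd hu2 hv2
      (Odd.of_dvd_nat (odd_two_mul_add_one l) (orderOf_dvd_of_pow_eq_one h1))
    exact hnc (isConj_iff.2 ⟨d, hd⟩)

/-- The partners, sorted by their matrices. -/
theorem npairs_eq_sum (hc : Complete B) {u : G} (hu : IsConj S.z u) (huz : Commute u S.z) :
    B.npairs u = ∑ i ∈ Finset.range 6304, B.zCnt u i := by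
  classical
  haveI := Fintype.ofFinite G
  have hset : (Finset.univ.filter fun v => IsConj B.duadRep v ∧ S.z ∈ Subgroup.zpowers (u * v)) =
      (Finset.range 6304).biUnion fun i => Finset.univ.filter fun v =>
        IsConj B.duadRep v ∧ B.Mat v (Central.LT i) ∧ B.GoodPair (u * v) := by
    ext v
    simp only [Finset.mem_filter, Finset.mem_univ, true_and, Finset.mem_biUnion, Finset.mem_range]
    constructor
    · rintro ⟨hv, hz⟩
      have hgz : Commute (u * v) S.z := by
        obtain ⟨j, hj⟩ := hz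
        simp only at hj
        rw [← hj]
        exact (Commute.refl _).zpow_right j
      have hvz : Commute v S.z := by
        have := huz.inv_left.mul_left hgz
        rwa [inv_mul_cancel_left] at this
      obtain ⟨x, m, hi⟩ := B.img_exists hvz
      obtain ⟨h2, -⟩ := invol_of_conj_t hG hJ hv
      have hm : mMul m m = mId :=
        ((hi.mul B hi).unique B (B.img_one.congr B (Or.inl h2))).2
      obtain ⟨hx, n, hn, ha, hvn⟩ := hi
      obtain ⟨i, hi6, rfl⟩ := hc n m hn ha hm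
      exact ⟨i, hi6, hv, ⟨x, hx, n, hn, ha, hvn⟩, Or.inl hz⟩
    · rintro ⟨i, -, hv, hm, hg⟩
      exact ⟨hv, (good_iff hG hJ hu hv (huz.mul_left (hm.commute B))).1 hg⟩
  rw [npairs, Nat.card_eq_fintype_card, Fintype.card_subtype, hset, Finset.card_biUnion]
  · refine Finset.sum_congr rfl fun i _ => ?_
    rw [zCnt, Nat.card_eq_fintype_card, Fintype.card_subtype]
  · intro i hi j hj hij
    rw [Function.onFun, Finset.disjoint_filter]
    intro v _ h1 h2
    rw [Finset.mem_coe, Finset.mem_range] at hi hj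
    exact hij (LT_inj hi hj (h1.2.1.unique B h2.2.1))

theorem crit_spec (M : B.NVModel) {u v : G} (hu : IsConj S.z u) (hv : IsConj B.duadRep v) {wv rho k hl mi : ℕ}
    {hw : List ℕ} (hi : B.Img (u * v) wv rho) (hk : ExactOrd rho k) (hmi : mi < 2 ^ 144)
    (hhalf : k % 2 = 1 ∨ (hl < 6303 ∧ (∀ g ∈ hw, g < 2) ∧ Central.LT hl = JankoFourOrder.mPow rho (k / 2) ∧
      mMul (wordMat hw) mi = mId ∧
      mMul (Central.LT hl) (wordMat hw) = mMul (wordMat hw) (repM (clsOf hl)))) :
    B.GoodPair (u * v) ↔ critB (mSum rho k) (mSum rho (k / 2)) mi k (clsOf hl) wv = true := by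
  obtain ⟨hu2, hv2, hnc⟩ := facts_pair hG hJ hu hv
  rw [good_iff hG hJ hu hv (hi.commute B), B.z_mem_pair_iff hu2 hv2 hnc hi hk, vSum_eq rho hi.1, critB]
  by_cases hS : mMul (mSum rho k) wv = 0
  swap
  · have hb : Nat.beq (mMul (mSum rho k) wv) 0 = false := by
      rw [Bool.eq_false_iff, Ne, Nat.beq_eq]; exact hS
    rw [if_neg hS, hb, if_neg Bool.false_ne_true, Bool.not_eq_true', Bool.eq_false_iff, ne_eq, ne_eq, Nat.beq_eq,
      show Nat.land (mMul (mSum rho k) wv) 63 = mMul (mSum rho k) wv % 64 from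
        Nat.and_two_pow_sub_one_eq_mod _ 6,
      show Nat.shiftRight (mMul (mSum rho k) wv) 6 = mMul (mSum rho k) wv / 64 from
        Nat.shiftRight_eq_div_pow _ 6]
  rw [if_pos hS, if_pos (show Nat.beq (mMul (mSum rho k) wv) 0 = true by rw [Nat.beq_eq]; exact hS),
    Bool.or_eq_true, Nat.beq_eq, show Nat.mod k 2 = k % 2 from rfl, Nat.odd_iff]
  rcases hhalf with hodd | ⟨hl6, hwl, hLT, hinv, hcl⟩
  · simp [hodd]
  rcases Nat.mod_two_eq_zero_or_one k with hev | hev
  swap
  · simp [hev]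
  refine or_congr_right ?_
  obtain ⟨W, hW, hWa⟩ := B.exists_word_acts hwl
  have hWz : Commute W S.z := Frame.commute_z hW
  have hWi : B.Acts W⁻¹ mi := hWa.inv B hWz hmi hinv
  have hleft : mMul mi (wordMat hw) = mId :=
    (hWi.mul B hWa hWz.inv_left).unique B (by rw [inv_mul_cancel]; exact B.acts_one)
  have hgk := hi.pow B (k / 2)
  rw [vSum_eq rho hi.1, ← hLT] at hgk
  have hc3 := clsOf_lt hl6
  have hr := forallLt_elim rep_el hc3
  simp only [Bool.and_eq_true, Nat.beq_eq] at hr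
  have hrlt : repM (clsOf hl) < 2 ^ 144 := by rw [← hr.1.2]; exact LT_lt _
  have he : mMul mi (Central.LT hl) = mMul (repM (clsOf hl)) mi := by
    calc mMul mi (Central.LT hl) = mMul mi (mMul (Central.LT hl) (mMul (wordMat hw) mi)) := by
          rw [hinv, mMul_mId (LT_lt hl)]
      _ = mMul mi (mMul (mMul (wordMat hw) (repM (clsOf hl))) mi) := by rw [← mMul_assoc (Central.LT hl), hcl]
      _ = mMul (mMul (mMul mi (wordMat hw)) (repM (clsOf hl))) mi := by simp only [mMul_assoc]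
      _ = _ := by rw [hleft, mId_mMul hrlt]
  set x' := W⁻¹ * (u * v) ^ (k / 2) * W⁻¹⁻¹ with hx'def
  have hx' := (B.img_norm ((S.norm_of_mem_C hW).inv S) hWi).conjugate hgk hrlt he
  rw [mMul_vec_zero, Nat.zero_xor, Nat.xor_zero, ← hx'def] at hx'
  have hsq : x' * x' = W⁻¹ * ((u * v) ^ (k / 2) * (u * v) ^ (k / 2)) * W⁻¹⁻¹ := by rw [hx'def]; group
  have hz1 : S.Zm (x' * x') 1 := by
    rw [hsq, ← pow_add, show k / 2 + k / 2 = k by omega]
    have h1 := hi.pow B k
    rw [hk.2.1, vSum_eq rho hi.1, hS] at h1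
    have h2 := (B.img_mId_iff h1).conj hWz.inv_left
    rw [q_zero, mul_one, inv_inv, inv_mul_cancel] at h2
    rwa [inv_inv]
  obtain ⟨f, hf⟩ := table_mem hG hJ hc3 hx' hz1
  obtain ⟨-, -, hF⟩ := table_prop hG hJ M hc3 hf
  obtain ⟨f0, f1, -⟩ := hF x' hx'
  have h4 := forallLt_elim four_ok hc3
  rw [List.all_eq_true] at h4
  have h5 := h4 _ hf
  simp only [beq_iff_eq] at h5
  rw [h5, Nat.beq_eq]
  have hne : (u * v) ^ (k / 2) * (u * v) ^ (k / 2) ≠ 1 ↔ x' * x' ≠ 1 := by
    rw [hsq, not_iff_not, conj_eq_one_iff]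
  rw [hne]
  refine ⟨fun h => ?_, fun h => ?_⟩
  · by_contra hf0
    exact h (f1 hf0).1
  · rw [f0 h]; exact S.hE.z_ne_one

omit hG hJ in
/-- Counting over a list of vectors with two elements each. -/
theorem card_list {m : ℕ} {crit : ℕ → Bool} {P : G → Prop} : ∀ {L : List (ℕ × ℕ)},
    (L.map Prod.fst).Nodup → (∀ e ∈ L, Nat.card {h // P h ∧ B.Img h e.1 m} = e.2) →
    Nat.card {h // P h ∧ ∃ e ∈ L, B.Img h e.1 m ∧ crit e.1 = true} =
      L.foldr (fun e s => Nat.add (cond (crit e.1) e.2 0) s) 0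
  | [], _, _ => by simp
  | a :: L, hn, hc => by
    classical
    haveI := Fintype.ofFinite G
    rw [List.map_cons, List.nodup_cons] at hn
    have ih := card_list (crit := crit) hn.2 fun e he => hc e (List.mem_cons_of_mem _ he)
    rw [List.foldr_cons, ← ih]
    show _ = cond (crit a.1) a.2 0 + _
    simp only [Nat.card_eq_fintype_card, Fintype.card_subtype]
    have hsplit : (Finset.univ.filter fun h => P h ∧ ∃ e ∈ a :: L, B.Img h e.1 m ∧ crit e.1 = true) =
        (Finset.univ.filter fun h => (P h ∧ B.Img h a.1 m) ∧ crit a.1 = true) ∪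
          Finset.univ.filter fun h => P h ∧ ∃ e ∈ L, B.Img h e.1 m ∧ crit e.1 = true := by
      ext h; simp [or_and_right, exists_or, and_or_left, and_assoc]
    have hdis : Disjoint (Finset.univ.filter fun h => (P h ∧ B.Img h a.1 m) ∧ crit a.1 = true)
        (Finset.univ.filter fun h => P h ∧ ∃ e ∈ L, B.Img h e.1 m ∧ crit e.1 = true) := by
      rw [Finset.disjoint_filter]
      rintro h - ⟨⟨-, h1⟩, -⟩ ⟨-, e, he, h2, -⟩
      exact hn.1 (List.mem_map.2 ⟨e, he, (h2.unique B h1).1⟩)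
    rw [hsplit, Finset.card_union_of_disjoint hdis]
    congr 1
    have ha := hc a (List.mem_cons_self ..)
    rw [Nat.card_eq_fintype_card, Fintype.card_subtype] at ha
    cases crit a.1 <;> simp [ha]

/-- The value at a root. -/
theorem zCnt_root (M : B.NVModel) {R : RepData} {u : G} (hu : IsConj S.z u) (hui : B.Img u R.x R.sig)
    {e : ℕ × List ℕ × ℕ × ℕ × List ℕ × ℕ × ℕ} (he : R.rootOK e = true) :
    B.zCnt u e.1 = e.2.2.2.2.2.2 := by
  obtain ⟨i, w, k, hl, hw, mi, val⟩ := e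
  simp only [RepData.rootOK, Bool.and_eq_true, Bool.or_eq_true, List.all_eq_true, Nat.blt_eq, Nat.beq_eq] at he
  obtain ⟨⟨⟨⟨⟨⟨⟨⟨hi6, hwl⟩, hcl⟩, hk0⟩, hkid⟩, hkmin⟩, hmi⟩, hhalf⟩, hval⟩ := he
  dsimp only
  have hk : ExactOrd (mMul R.sig (Central.LT i)) k := ⟨hk0, hkid, fun j hj hjk => by
    have := forallLt_elim hkmin hjk
    simp only [Bool.or_eq_true, Bool.not_eq_true', Nat.beq_eq] at this
    intro e'
    rcases this with r | r
    · omega
    · rw [e', show Nat.beq mId mId = true by rw [Nat.beq_eq]] at r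
      exact Bool.noConfusion r⟩
  obtain ⟨W, hW, hWa⟩ := B.exists_word_acts hwl
  have hWn := S.norm_of_mem_C hW
  have hWi := B.img_norm hWn hWa
  set m := wordMat w
  have hc := clsOf_le i
  have hcr : mMul m (repM (clsOf i)) = mMul (Central.LT i) m := hcl.symm
  rw [← hval, RepData.rootVal, ← card_list (B := B) (m := repM (clsOf i)) (P := IsConj B.duadRep)
    (crit := fun y => critB (mSum (mMul R.sig (Central.LT i)) k) (mSum (mMul R.sig (Central.LT i)) (Nat.div k 2))
      mi k (clsOf hl) (Nat.xor R.x (mMul R.sig (mMul m y))))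
    (tEntries_nodup hG hJ _ hc) fun e he => (t_card hG hJ M hc he).2]
  refine (Nat.card_congr ((MulAut.conj W).toEquiv.subtypeEquiv fun h => ?_)).symm
  show _ ↔ IsConj B.duadRep (W * h * W⁻¹) ∧ B.Mat (W * h * W⁻¹) (Central.LT i) ∧ B.GoodPair (u * (W * h * W⁻¹))
  rw [isConj_conj_right_iff]
  refine and_congr_right fun ht => ?_
  have main : ∀ {y : ℕ}, B.Img h y (repM (clsOf i)) → (B.GoodPair (u * (W * h * W⁻¹)) ↔
      critB (mSum (mMul R.sig (Central.LT i)) k) (mSum (mMul R.sig (Central.LT i)) (Nat.div k 2)) mi k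
        (clsOf hl) (Nat.xor R.x (mMul R.sig (mMul m y))) = true) := by
    intro y hy
    have hv := hWi.conjugate hy (LT_lt i) hcr
    rw [mMul_vec_zero, Nat.zero_xor, Nat.xor_zero] at hv
    refine crit_spec hG hJ M hu ((isConj_conj_right_iff _ W h).2 ht) (hui.mul B hv) hk hmi (hw := hw) ?_
    rcases hhalf with h' | ⟨⟨⟨⟨a, b⟩, c⟩, d⟩, e⟩
    exacts [Or.inl h', Or.inr ⟨a, b, c, d, e⟩]
  constructor
  · rintro ⟨e, hee, hy, hcrit⟩
    exact ⟨(B.mat_of_acts hWn hWa).conj B ⟨_, hy⟩ (LT_lt i) hcr, (main hy).2 hcrit⟩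
  · rintro ⟨hm, hg⟩
    obtain ⟨hi', hgi⟩ := B.mat_exists (Commute.inv_left (Frame.commute_z hW : Commute W S.z))
    have hWm := B.mat_of_acts hWn hWa
    have h1 : mMul hi' m = mId := (hgi.mul B hWm).unique B (by rw [inv_mul_cancel]; exact B.mat_one)
    have h2 := (hgi.mul B hm).mul B hWm
    rw [show W⁻¹ * (W * h * W⁻¹) * W = h by group, mMul_assoc, ← hcr, ← mMul_assoc, h1] at h2
    obtain ⟨y, hy⟩ := h2
    have hr : repM (clsOf i) < 2 ^ 144 := by
      rcases Nat.lt_or_ge (clsOf i) 3 with h3 | h3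
      · have hr' := forallLt_elim rep_el h3
        simp only [Bool.and_eq_true, Nat.beq_eq] at hr'
        rw [← hr'.1.2]; exact LT_lt _
      · rw [show clsOf i = 3 by omega]; exact mId_lt
    rw [mId_mMul hr] at hy
    obtain ⟨e, hee, rfl⟩ := t_mem hG hJ M hc ht hy
    exact ⟨e, hee, hy, (main hy).1 hg⟩

/-- A generator of the stabilizer. -/
theorem gen_stab (M : B.NVModel) {R : RepData} (hR : RepOK R) {g : ℕ} (hg : g < R.gens.length)
    {u : G} (hui : B.Img u R.x R.sig) :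
    ∃ c : G, B.Mat c (R.hMat g) ∧ S.Zm (c * u * c⁻¹) u := by
  have h := hR.gens
  rw [RepData.gensOK, List.all_eq_true] at h
  have h' := h (R.gens.getD g ([], false, 0, mId, mId))
    (by rw [List.getD_eq_getElem _ _ hg]; exact List.getElem_mem hg)
  rcases hE : R.gens.getD g ([], false, 0, mId, mId) with ⟨w, b, a, H, Hi⟩
  rw [hE] at h'
  simp only [Bool.and_eq_true, Nat.blt_eq, Nat.beq_eq, List.all_eq_true] at h'
  obtain ⟨⟨⟨⟨⟨⟨hw, ha⟩, -⟩, hH⟩, -⟩, hcomm⟩, hfix⟩ := h'
  obtain ⟨W, hW, hWa⟩ := B.exists_word_acts hw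
  have hel : ∃ n, S.Norm n ∧ B.Acts n H := by
    cases b
    · exact ⟨W, S.norm_of_mem_C hW, by rw [hH]; simpa using hWa⟩
    · have hr := forallLt_elim rep_el (show (1 : ℕ) < 3 by norm_num)
      simp only [Bool.and_eq_true] at hr
      have hj' := hr.1.1
      simp only [jCheck, normPerm, Bool.and_eq_true] at hj'
      obtain ⟨σ, hσ⟩ := exists_M24_elt hj'.1.1.1.2.1.1
      obtain ⟨hn, hna⟩ := M.jCheck_spec hr.1.1 hσ
      exact ⟨_, hn.mul S (S.norm_of_mem_C hW), by rw [hH]; simpa using hna.mul B hWa hn.1⟩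
  obtain ⟨n, hn, hna⟩ := hel
  have hc : B.Img (B.q a * n) a H := ⟨ha, n, hn, hna, Setting.Zm.refl _⟩
  refine ⟨B.q a * n, by rw [RepData.hMat, hE]; exact ⟨a, hc⟩, ?_⟩
  obtain ⟨hx, n', hn', hna', hu'⟩ := hui
  have hi := hc.conjugate ⟨hx, n', hn', hna', hu'⟩ hna'.1 hcomm
  have e : a ^^^ mMul H R.x ^^^ mMul R.sig a = R.x := by
    have : a ^^^ mMul H R.x = R.x ^^^ mMul R.sig a := hfix.symm
    rw [this, Nat.xor_assoc, Nat.xor_self, Nat.xor_zero]
  rw [e] at hi
  exact B.zm_of_img hi ⟨hx, n', hn', hna', hu'⟩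

/-- **The number of partners over a representative.** -/
theorem npairs_rep (M : B.NVModel) (hc : Complete B) {R : RepData} (hR : RepOK R) {u : G}
    (hu : IsConj S.z u) (hui : B.Img u R.x R.sig) : B.npairs u = R.total := by
  have hval : ∀ j < 6304, B.zCnt u (R.seqAt j) =
      (R.roots.getD (R.rootAt j) (0, [], 0, 0, [], 0, 0)).2.2.2.2.2.2 := by
    intro j
    induction j using Nat.strong_induction_on with
    | _ j ih =>
      intro hj
      have h := hR.steps j hj
      simp only [RepData.stepOK, Bool.and_eq_true, Nat.blt_eq] at h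
      obtain ⟨⟨-, hroot⟩, hstep⟩ := h
      split_ifs at hstep with hs
      · rw [Nat.beq_eq] at hstep
        have h' := List.all_eq_true.1 hR.roots (R.roots.getD (R.rootAt j) (0, [], 0, 0, [], 0, 0))
          (by rw [List.getD_eq_getElem _ _ hroot]; exact List.getElem_mem hroot)
        rw [hstep]
        exact zCnt_root hG hJ M hu hui h'
      · simp only [Bool.and_eq_true, Nat.blt_eq, Nat.beq_eq] at hstep
        obtain ⟨⟨⟨hp, hgl⟩, hroots⟩, he⟩ := hstep
        obtain ⟨c, hcm, hcu⟩ := gen_stab hG hJ M hR hgl hui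
        rw [← zCnt_zm hcu, zCnt_conj hcm he, ih _ hp (by omega), hroots]
  obtain ⟨f, hf, hfv⟩ := seq_bijective hR
  rw [npairs_eq_sum hG hJ hc hu (hui.commute B), ← Fin.sum_univ_eq_sum_range, total_eq_sum,
    ← Fin.sum_univ_eq_sum_range]
  refine (Fintype.sum_bijective f hf _ _ fun j => ?_).symm
  rw [hfv]
  exact (hval j j.2).symm

end HexBase

end CfsgLib.JankoFour
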